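import Mathlib.AlgebraicGeometry.Morphisms.Flat
import Mathlib.RingTheory.Flat.FaithfullyFlat.Algebra
import Mathlib.Algebra.Module.FinitePresentation
import Mathlib.LinearAlgebra.Dual.Lemmas
import Mathlib.LinearAlgebra.TensorProduct.Pi

/-!
# Finitely generated torsion-free modules over reduced Noetherian rings

* `exists_dual_ne_zero`, `exists_embedding`: they embed into finite free modules;
* `isTorsionFree_baseChange`: they stay torsion-free after flat base change.
-/

set_option autoImplicit false
universe u v w
open TensorProduct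

namespace K22.Torsionless

section

variable {A : Type u} [CommRing A] [IsReduced A]

theorem isField_of_minimal (p : Ideal A) (hp : p ∈ minimalPrimes A) [p.IsPrime] :
    IsField (Localization.AtPrime p) := by
  have h1 : Subsingleton (PrimeSpectrum (Localization.AtPrime p)) :=
    IsLocalization.subsingleton_primeSpectrum_of_mem_minimalPrimes p hp (Localization.AtPrime p)
  have h2 : IsReduced (Localization.AtPrime p) := inferInstance
  rw [IsLocalRing.isField_iff_maximalIdeal_eq, eq_bot_iff]
  intro x hx
  have h3 : x ∈ nilradical (Localization.AtPrime p) := by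
    rw [nilradical_eq_sInf, Ideal.mem_sInf]
    intro J hJ
    have : (⟨J, hJ⟩ : PrimeSpectrum (Localization.AtPrime p)) = IsLocalRing.closedPoint _ := Subsingleton.elim _ _
    have h4 : J = IsLocalRing.maximalIdeal (Localization.AtPrime p) := congrArg PrimeSpectrum.asIdeal this
    rw [h4]; exact hx
  rw [nilradical_eq_zero] at h3
  exact h3

theorem mem_nonZeroDivisors_of_forall {a : A} (ha : ∀ p ∈ minimalPrimes A, a ∉ p) : IsRegular a := by
  have hcomm : IsLeftRegular a ↔ IsRegular a := isLeftRegular_iff_isRegular
  rw [← hcomm]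
  intro b c hbc
  dsimp only at hbc
  by_contra hne'
  have hbc' : a * (b - c) = 0 := by rw [mul_sub, hbc, sub_self]
  have hbc0 : b - c ≠ 0 := sub_ne_zero.mpr hne'
  have h2 : b - c ∉ nilradical A := by
    intro hn
    exact hbc0 ((mem_nilradical.mp hn).eq_zero)
  rw [nilradical, ← Ideal.sInf_minimalPrimes, Ideal.mem_sInf] at h2
  push Not at h2
  obtain ⟨p, hp, hpb⟩ := h2
  have hpp : p.IsPrime := hp.1.1
  rcases hpp.mem_or_mem (show a * (b - c) ∈ p by rw [hbc']; exact p.zero_mem) with h3 | h3
  · exact ha p hp h3
  · exact hpb h3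

variable [IsNoetherianRing A] {M : Type v} [AddCommGroup M] [Module A M]

theorem exists_minimal [Module.IsTorsionFree A M] {m : M} (hm : m ≠ 0) :
    ∃ p ∈ minimalPrimes A, ∀ a : A, a • m = 0 → a ∈ p := by
  let I : Ideal A := LinearMap.ker (LinearMap.toSpanSingleton A M m)
  have hI : ∀ a, a ∈ I ↔ a • m = 0 := fun a => by
    rw [LinearMap.mem_ker, LinearMap.toSpanSingleton_apply]
  have hfin : (minimalPrimes A).Finite := minimalPrimes.finite_of_isNoetherianRing _
  by_contra hcon
  push Not at hcon
  have h1 : ¬ (I : Set A) ⊆ ⋃ p ∈ minimalPrimes A, (p : Set _) := by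
    intro hsub
    obtain ⟨p, hp, hle⟩ := (Ideal.subset_union_prime_finite hfin ⊥ ⊥ (f := fun p => p)
      (fun p hp _ _ => hp.1.1)).mp hsub
    obtain ⟨a, ha, hap⟩ := hcon p hp
    exact hap (hle ((hI a).mpr ha))
  rw [Set.not_subset] at h1
  obtain ⟨a, haI, ha⟩ := h1
  have hreg : IsRegular a := mem_nonZeroDivisors_of_forall fun p hp hap => ha (Set.mem_biUnion hp hap)
  have h4 := Module.IsTorsionFree.isSMulRegular (M := M) hreg
  exact hm (h4 (show a • m = a • (0 : M) by rw [smul_zero]; exact (hI a).mp haI))

theorem exists_dual_ne_zero [Module.Finite A M] [Module.IsTorsionFree A M] {m : M} (hm : m ≠ 0) :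
    ∃ f : M →ₗ[A] A, f m ≠ 0 := by
  obtain ⟨p, hp, hpm⟩ := exists_minimal (A := A) hm
  have : p.IsPrime := hp.1.1
  let K := Localization.AtPrime p
  let hK : Field K := (isField_of_minimal p hp).toField
  let l : M →ₗ[A] LocalizedModule p.primeCompl M := LocalizedModule.mkLinearMap p.primeCompl M
  have hl : l m ≠ 0 := by
    intro h0
    obtain ⟨s, hs⟩ := (IsLocalizedModule.eq_zero_iff p.primeCompl l).mp h0
    exact s.2 (hpm s hs)
  obtain ⟨φ, hφ⟩ : ∃ φ : Module.Dual K (LocalizedModule p.primeCompl M), φ (l m) ≠ 0 := by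
    by_contra hcon
    push Not at hcon
    exact hl ((Module.forall_dual_apply_eq_zero_iff K _).mp hcon)
  have hfp : Module.FinitePresentation A M := Module.finitePresentation_of_finite A M
  obtain ⟨h, s, hs⟩ := Module.FinitePresentation.exists_lift_of_isLocalizedModule p.primeCompl
    (Algebra.linearMap A K) ((φ.restrictScalars A).comp l)
  refine ⟨h, fun h0 => ?_⟩
  have h1 := LinearMap.congr_fun hs m
  simp only [LinearMap.comp_apply, LinearMap.smul_apply, h0, map_zero, LinearMap.restrictScalars_apply] at h1
  have h2 : algebraMap A K s * φ (l m) = 0 := by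
    rw [← Algebra.smul_def]
    exact h1.symm
  have h3 : IsUnit (algebraMap A K s) := IsLocalization.map_units K s
  rcases h3.mul_right_eq_zero.mp h2 with h4
  exact hφ h4

theorem exists_embedding [Module.Finite A M] [Module.IsTorsionFree A M] :
    ∃ (n : ℕ) (f : M →ₗ[A] (Fin n → A)), Function.Injective f := by
  have hN : IsNoetherian A (M →ₗ[A] A) := by
    obtain ⟨k, π, hπ⟩ := Module.Finite.exists_fin' A M
    have h1 : IsNoetherian A ((Fin k → A) →ₗ[A] A) := inferInstance
    refine isNoetherian_of_injective (LinearMap.lcomp A A π) ?_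
    intro f g hfg
    ext x
    obtain ⟨y, rfl⟩ := hπ x
    exact LinearMap.congr_fun hfg y
  obtain ⟨S, hS⟩ := hN.noetherian ⊤
  let e : S ≃ Fin (Fintype.card S) := Fintype.equivFin S
  refine ⟨Fintype.card S, LinearMap.pi fun j => (e.symm j).1, ?_⟩
  rw [injective_iff_map_eq_zero]
  intro m hm
  by_contra hne
  obtain ⟨f, hf⟩ := exists_dual_ne_zero (A := A) hne
  apply hf
  have hmem : f ∈ Submodule.span A (S : Set (M →ₗ[A] A)) := by rw [hS]; trivial
  refine Submodule.span_induction (p := fun f _ => f m = 0) ?_ ?_ ?_ ?_ hmem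
  · intro g hg
    have h1 := congrFun hm (e ⟨g, hg⟩)
    simpa using h1
  · rfl
  · intro a b _ _ ha hb
    rw [LinearMap.add_apply, ha, hb, add_zero]
  · intro a b _ hb
    rw [LinearMap.smul_apply, hb, smul_zero]

end

/-- Flat base change of torsion-free modules over a reduced Noetherian ring. -/
theorem isTorsionFree_baseChange (A : Type u) [CommRing A] [IsReduced A] [IsNoetherianRing A]
    (M : Type v) [AddCommGroup M] [Module A M] [Module.Finite A M] [Module.IsTorsionFree A M]
    (B : Type w) [CommRing B] [Algebra A B] [Module.Flat A B] : Module.IsTorsionFree B (B ⊗[A] M) := by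
  obtain ⟨n, f, hf⟩ := exists_embedding (A := A) (M := M)
  let g : (B ⊗[A] M) →ₗ[B] (Fin n → B) :=
    (TensorProduct.piScalarRight A B B (Fin n)).toLinearMap ∘ₗ (f.baseChange B)
  have hg : Function.Injective g := by
    refine (TensorProduct.piScalarRight A B B (Fin n)).injective.comp ?_
    exact Module.Flat.lTensor_preserves_injective_linearMap (M := B) f hf
  exact hg.moduleIsTorsionFree g (fun c x => g.map_smul c x)

/-- Faithfully flat descent of torsion-freeness. -/
theorem isTorsionFree_of_baseChange (A : Type u) [CommRing A]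
    (M : Type v) [AddCommGroup M] [Module A M] (B : Type w) [CommRing B] [Algebra A B]
    [Module.FaithfullyFlat A B] (h : Module.IsTorsionFree B (B ⊗[A] M)) : Module.IsTorsionFree A M := by
  refine ⟨fun r hr => ?_⟩
  intro m m' hm
  have hr' : IsRegular (algebraMap A B r) := by
    have hcomm : IsLeftRegular (algebraMap A B r) ↔ IsRegular (algebraMap A B r) := isLeftRegular_iff_isRegular
    rw [← hcomm]
    have h1 : Function.Injective (LinearMap.mulLeft A r) := hr.left
    have h2 := Module.Flat.lTensor_preserves_injective_linearMap (M := B) (LinearMap.mulLeft A r) h1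
    intro x y hxy
    have h3 : (LinearMap.lTensor B (LinearMap.mulLeft A r)) (x ⊗ₜ 1) =
        (LinearMap.lTensor B (LinearMap.mulLeft A r)) (y ⊗ₜ 1) := by
      simp only [LinearMap.lTensor_tmul, LinearMap.mulLeft_apply, mul_one]
      have h4 : ∀ z : B, z ⊗ₜ[A] r = (algebraMap A B r * z) ⊗ₜ[A] (1 : A) := by
        intro z
        rw [← Algebra.smul_def, TensorProduct.smul_tmul, smul_eq_mul, mul_one]
      rw [h4, h4]
      exact congrArg (fun z => z ⊗ₜ[A] (1 : A)) hxy
    have h5 := h2 h3
    have h6 := congrArg (TensorProduct.rid A B) h5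
    simpa using h6
  have h1 := Module.IsTorsionFree.isSMulRegular (M := B ⊗[A] M) hr'
  have h2 : (1 : B) ⊗ₜ[A] m = (1 : B) ⊗ₜ[A] m' := by
    apply h1
    dsimp only
    rw [TensorProduct.smul_tmul', TensorProduct.smul_tmul', smul_eq_mul, mul_one,
      Algebra.algebraMap_eq_smul_one, TensorProduct.smul_tmul, TensorProduct.smul_tmul]
    exact congrArg _ hm
  exact Module.FaithfullyFlat.tensorProduct_mk_injective (A := A) (B := B) M h2

theorem exists_equiv_of_baseChange {A B : Type u} [CommRing A] [CommRing B] [Algebra A B]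
    (hA : IsField A) (hB : IsField B) {M : Type u} [AddCommGroup M] [Module A M]
    (e : TensorProduct A B M ≃ₗ[B] B) : Nonempty (M ≃ₗ[A] A) := by
  have : Nontrivial A := hA.nontrivial
  have : Nontrivial B := hB.nontrivial
  have : Module.Free A M := by
    letI := hA.toField
    exact Module.Free.of_divisionRing A M
  have h1 := Module.rank_baseChange (R := B) (S := A) (M' := M)
  rw [e.rank_eq, Module.rank_self, Cardinal.lift_id] at h1
  exact nonempty_linearEquiv_of_rank_eq (h1.symm.trans (Module.rank_self A).symm)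

end K22.Torsionless
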