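import Groth.Agent.TFOne.K975.Quot
import Groth.Agent.TFOne.K22.Torsionless
import Groth.Agent.Fdesc.PullbackStalk
import Groth.Agent.FormalB.PullCoh

/-!
# Flat pull-back of torsion-free modules, generic ranks and supports

`i : Y ⟶ X` flat, `X` and `Y` locally Noetherian, `X` reduced.
* `isTorsionFree_pullback`, `isTorsionFree_stalk_of_pullback`;
* `isRkOne_pullback`, `isRkOne_of_pullback`;
* `support_pullback`;
* `isTF1_pullback`, `isTF1_of_pullback`, `isQuotOn_pullback`.
-/

set_option autoImplicit false
universe u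
open CategoryTheory CategoryTheory.Limits AlgebraicGeometry TopologicalSpace Opposite TensorProduct

namespace K22.Pull

open Groth.Agent Groth.Agent.Fdesc.PullbackStalk Groth.Agent.CycB
open Groth.Agent.CurvesB Groth.Agent.CurvesB.SubH1 K975.Gen K975.Quot

variable {X Y : Scheme.{u}} (i : Y ⟶ X)

section Stalk

variable [Flat i]

theorem flat_stalk (y : Y) :
    letI := stalkAlg i y
    Module.FaithfullyFlat (X.presheaf.stalk (i.base y)) (Y.presheaf.stalk y) := by
  let := stalkAlg i y
  have h1 : (i.stalkMap y).hom.Flat := Flat.stalkMap i y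
  have h2 : Module.Flat (X.presheaf.stalk (i.base y)) (Y.presheaf.stalk y) := h1
  have h3 : IsLocalHom (algebraMap (X.presheaf.stalk (i.base y)) (Y.presheaf.stalk y)) :=
    inferInstanceAs (IsLocalHom (i.stalkMap y).hom)
  exact Module.FaithfullyFlat.of_flat_of_isLocalHom

theorem isTorsionFree_of_equiv {R : Type*} [CommRing R] {M N : Type*} [AddCommGroup M] [Module R M]
    [AddCommGroup N] [Module R N] (e : M ≃ₗ[R] N) (h : Module.IsTorsionFree R M) :
    Module.IsTorsionFree R N :=
  e.symm.injective.moduleIsTorsionFree e.symm (fun c x => e.symm.map_smul c x)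

theorem isTorsionFree_pullback [IsReduced X] [IsLocallyNoetherian X] {M : X.Modules} (hM : Coh.IsCoh M)
    (h : TorSh.IsTorsionFree M) : TorSh.IsTorsionFree ((Scheme.Modules.pullback i).obj M) := by
  intro y
  let := stalkAlg i y
  have := flat_stalk i y
  have h1 : IsNoetherianRing (X.presheaf.stalk (i.base y)) := inferInstance
  have h2 : Module.Finite (X.presheaf.stalk (i.base y)) (M.presheaf.stalk (i.base y)) :=
    CohStalk.finite_stalk M hM _
  have h3 : Module.IsTorsionFree (X.presheaf.stalk (i.base y)) (M.presheaf.stalk (i.base y)) := h _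
  exact isTorsionFree_of_equiv (stalkPullbackEquiv i M y)
    (Torsionless.isTorsionFree_baseChange _ _ _)

theorem isTorsionFree_stalk_of_pullback (M : X.Modules) (y : Y)
    (h : Module.IsTorsionFree (Y.presheaf.stalk y) (((Scheme.Modules.pullback i).obj M).presheaf.stalk y)) :
    Module.IsTorsionFree (X.presheaf.stalk (i.base y)) (M.presheaf.stalk (i.base y)) := by
  let := stalkAlg i y
  have := flat_stalk i y
  exact Torsionless.isTorsionFree_of_baseChange _ _ (Y.presheaf.stalk y)
    (isTorsionFree_of_equiv (stalkPullbackEquiv i M y).symm h)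

theorem subsingleton_pullback_iff (M : X.Modules) (y : Y) :
    Subsingleton (((Scheme.Modules.pullback i).obj M).presheaf.stalk y) ↔
      Subsingleton (M.presheaf.stalk (i.base y)) := by
  let := stalkAlg i y
  have := flat_stalk i y
  rw [← (stalkPullbackEquiv i M y).toEquiv.subsingleton_congr]
  constructor
  · intro h
    exact (Module.FaithfullyFlat.tensorProduct_mk_injective (A := X.presheaf.stalk (i.base y))
      (B := Y.presheaf.stalk y) (M.presheaf.stalk (i.base y))).subsingleton
  · intro h
    infer_instance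

theorem support_pullback (M : X.Modules) :
    CohB1.support ((Scheme.Modules.pullback i).obj M) = i.base ⁻¹' (CohB1.support M) := by
  ext y
  exact not_congr (subsingleton_pullback_iff i M y)

/-- Generic points map to generic points. -/
theorem isGen_map {y : Y} (hy : IsGen y) : IsGen (i.base y) := by
  intro x hx
  obtain ⟨y', hy', rfl⟩ := Flat.generalizingMap i hx
  rw [hy y' hy']

omit [Flat i] in
/-- Over a generic point in the image there is a generic point. -/
theorem exists_isGen [Surjective i] {x : X} (hx : IsGen x) : ∃ y : Y, IsGen y ∧ i.base y = x := by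
  obtain ⟨y, rfl⟩ := i.surjective x
  obtain ⟨y', h1, h2⟩ := DimOneTop.exists_generic_specializes y
  exact ⟨y', h1, hx _ (h2.map i.continuous)⟩

/-- The preimage of a union of components is a union of components. -/
theorem isUC_preimage {Z : Set X} (hZ : IsUC Z) : IsUC (i.base ⁻¹' Z) := by
  intro y
  constructor
  · intro hy
    obtain ⟨ξ, h1, h2, h3⟩ := (hZ _).mp hy
    obtain ⟨y', hy', rfl⟩ := Flat.generalizingMap i h3
    obtain ⟨y'', h4, h5⟩ := DimOneTop.exists_generic_specializes y'
    refine ⟨y'', h4, ?_, h5.trans hy'⟩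
    have : i.base y'' = i.base y' := h1 _ (h5.map i.continuous)
    change i.base y'' ∈ Z
    rw [this]
    exact h2
  · rintro ⟨ξ, h1, h2, h3⟩
    exact (hZ _).mpr ⟨i.base ξ, isGen_map i h1, h2, h3.map i.continuous⟩

theorem isRkOne_pullback {M : X.Modules} (h : TFOne.IsRkOne X M) :
    TFOne.IsRkOne Y ((Scheme.Modules.pullback i).obj M) := by
  intro y hy
  rw [mem_genericPoints_iff] at hy
  obtain ⟨e⟩ := h (i.base y) ((mem_genericPoints_iff _).mpr (isGen_map i hy))
  letI := stalkAlg i y
  exact ⟨(stalkPullbackEquiv i M y).symm.trans ((TensorProduct.AlgebraTensorModule.congr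
    (LinearEquiv.refl _ _) e).trans (TensorProduct.AlgebraTensorModule.rid _ _ _))⟩

theorem isRkOne_of_pullback [Surjective i] [IsReduced X] [IsReduced Y] {M : X.Modules}
    (h : TFOne.IsRkOne Y ((Scheme.Modules.pullback i).obj M)) : TFOne.IsRkOne X M := by
  intro x hx
  rw [mem_genericPoints_iff] at hx
  obtain ⟨y, hy, rfl⟩ := exists_isGen i hx
  obtain ⟨e⟩ := h y ((mem_genericPoints_iff _).mpr hy)
  let := stalkAlg i y
  have hff := flat_stalk i y
  exact Torsionless.exists_equiv_of_baseChange (GenStalk.isField_stalk (i.base y) hx)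
    (GenStalk.isField_stalk y hy) ((stalkPullbackEquiv i M y).trans e)

end Stalk

section TF1

variable [Flat i]

theorem isTF1_pullback [IsReduced X] [IsLocallyNoetherian X] {M : X.Modules} (h : TFOne.IsTF1 X M) :
    TFOne.IsTF1 Y ((Scheme.Modules.pullback i).obj M) :=
  ⟨FormalB.PullCoh.isCoh_pullback i h.1, isTorsionFree_pullback i h.1 h.2.1, isRkOne_pullback i h.2.2⟩

theorem isTF1_of_pullback [Surjective i] [IsReduced X] [IsReduced Y] {M : X.Modules} (hM : Coh.IsCoh M)
    (h : TFOne.IsTF1 Y ((Scheme.Modules.pullback i).obj M)) : TFOne.IsTF1 X M := by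
  refine ⟨hM, fun x => ?_, isRkOne_of_pullback i h.2.2⟩
  obtain ⟨y, rfl⟩ := i.surjective x
  exact isTorsionFree_stalk_of_pullback i M y (h.2.1 y)

theorem isQuotOn_pullback [IsReduced X] [IsLocallyNoetherian X] {M G : X.Modules} {π : M ⟶ G} {Z : Set X}
    (h : TFOne.IsQuotOn X M Z G π) :
    TFOne.IsQuotOn Y ((Scheme.Modules.pullback i).obj M) (i.base ⁻¹' Z)
      ((Scheme.Modules.pullback i).obj G) ((Scheme.Modules.pullback i).map π) := by
  have := h.1
  refine ⟨inferInstance, FormalB.PullCoh.isCoh_pullback i h.2.1, isTorsionFree_pullback i h.2.1 h.2.2.1, ?_⟩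
  rw [support_pullback, h.2.2.2]

end TF1

end K22.Pull
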