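import Groth.Agent.ParaF.K588.ThickPush
import Groth.Agent.Fga.FSGeo
import Groth.Agent.CycB.PureK
import Groth.Agent.Dcoh.FlatTor
import Groth.Agent.FormalB.PullSys
import Groth.Agent.CohqA.ClosedPush
import Groth.Agent.VarietyA.FiniteSupport
import Mathlib.RingTheory.Flat.TorsionFree

/-!
# Closed fibres: the unit `M ⟶ i_* i^* M` is the quotient by the ideal; flatness over a discrete valuation ring

* `isModPow_unit`: for a cartesian square over `Spec B ⟶ Spec A` with `A → B` surjective;
* `isFlatOver_iff_mono`: flatness over a discrete valuation ring is injectivity of a uniformizer.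
-/

set_option autoImplicit false
universe u
open CategoryTheory CategoryTheory.Limits AlgebraicGeometry Opposite TopologicalSpace TensorProduct

namespace K22.Unit

open Groth.Agent.VarietyB.PullSec Groth.Agent.Fdesc.LocGen Groth.Agent.CurvesA Groth.Agent.CurvesA.FlatH0
  Groth.Agent.FormalB Groth.Agent.FormalB.ModPow Groth.Agent.FormalB.ModPowAff K588.ThickPush

section Unit

variable {A B : Type u} [CommRing A] [CommRing B] (φ : A →+* B) (hφ : Function.Surjective φ)
  {X Z : Scheme.{u}} [X.Over (Spec (CommRingCat.of A))] {j : Z ⟶ X} {q : Z ⟶ Spec (CommRingCat.of B)}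
  (H : IsPullback j q (X ↘ Spec (CommRingCat.of A)) (Spec.map (CommRingCat.ofHom φ)))

include hφ H in
theorem isClosedImmersion : IsClosedImmersion j := by
  have : IsClosedImmersion (Spec.map (CommRingCat.ofHom φ)) :=
    IsClosedImmersion.spec_of_surjective _ hφ
  exact MorphismProperty.of_isPullback (P := @IsClosedImmersion) H.flip this

include hφ H in
theorem isModPow_unit (M : X.Modules) (hM : Coh.IsQCoh M) :
    IsModPow (RingHom.ker φ) ((Scheme.Modules.pullbackPushforwardAdjunction j).unit.app M) := by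
  have hg : IsClosedImmersion j := isClosedImmersion φ hφ H
  have hN : Coh.IsQCoh ((Scheme.Modules.pushforward j).obj
      ((Scheme.Modules.pullback j).obj M)) :=
    Groth.Agent.Ega1.QcqsPush.isQCoh_pushforward _ _ (isQCoh_pullback _ M hM)
  refine Groth.Agent.FormalB.FormalLoc.isModPow_of_cover hM hN _ fun x => ?_
  obtain ⟨_, ⟨U, hU, rfl⟩, hxU, -⟩ :=
    X.isBasis_affineOpens.exists_subset_of_mem_open (Set.mem_univ x) isOpen_univ
  refine ⟨U, hxU, hU, ?_⟩
  have hbc := isBaseChange_affine (X ↘ Spec (CommRingCat.of A)) q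
    (Spec.map (CommRingCat.ofHom φ)) j H M hM hU
    (V := j ⁻¹ᵁ U) rfl
  let i0 := baseAlg (Spec.map (CommRingCat.ofHom φ))
  let i1 := modX (X ↘ Spec (CommRingCat.of A)) M U
  let i2 := modX q ((Scheme.Modules.pullback j).obj M) (j ⁻¹ᵁ U)
  let i3 := modX' q (Spec.map (CommRingCat.ofHom φ))
    ((Scheme.Modules.pullback j).obj M) (j ⁻¹ᵁ U)
  have i4 := tower' q (Spec.map (CommRingCat.ofHom φ))
    ((Scheme.Modules.pullback j).obj M) (j ⁻¹ᵁ U)
  have hsec : ∀ m : Γ(M, U), ((Scheme.Modules.pullbackPushforwardAdjunction j).unit.app M).app U m =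
      sec j M (le_refl (j ⁻¹ᵁ U)) m := fun m =>
    (res_refl ((Scheme.Modules.pullback j).obj M)
      (((Scheme.Modules.pullbackPushforwardAdjunction j).unit.app M).app U m)).symm
  have hsurj : Function.Surjective (algebraMap Γ(Spec (CommRingCat.of A), ⊤)
      Γ(Spec (CommRingCat.of B), ⊤)) := by
    intro b
    obtain ⟨c, rfl⟩ := (ConcreteCategory.bijective_of_isIso
      (Scheme.ΓSpecIso (CommRingCat.of B)).inv).2 b
    obtain ⟨a, rfl⟩ := hφ c
    refine ⟨(Scheme.ΓSpecIso (CommRingCat.of A)).inv a, ?_⟩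
    have := Scheme.ΓSpecIso_inv_naturality (CommRingCat.ofHom φ)
    exact congr($this a).symm
  have hker : ∀ b : Γ(Spec (CommRingCat.of A), ⊤),
      b ∈ RingHom.ker (algebraMap Γ(Spec (CommRingCat.of A), ⊤) Γ(Spec (CommRingCat.of B), ⊤)) ↔
      ∃ a ∈ RingHom.ker φ, b = (Scheme.ΓSpecIso (CommRingCat.of A)).inv a := by
    intro b
    obtain ⟨a, rfl⟩ := (ConcreteCategory.bijective_of_isIso
      (Scheme.ΓSpecIso (CommRingCat.of A)).inv).2 b
    have h1 : algebraMap Γ(Spec (CommRingCat.of A), ⊤) Γ(Spec (CommRingCat.of B), ⊤)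
        ((Scheme.ΓSpecIso (CommRingCat.of A)).inv a) =
        (Scheme.ΓSpecIso (CommRingCat.of B)).inv (φ a) := by
      have := Scheme.ΓSpecIso_inv_naturality (CommRingCat.ofHom φ)
      exact congr($this a).symm
    rw [RingHom.mem_ker, h1]
    have hinj := (ConcreteCategory.bijective_of_isIso
      (Scheme.ΓSpecIso (CommRingCat.of B)).inv).1
    have hinj' := (ConcreteCategory.bijective_of_isIso
      (Scheme.ΓSpecIso (CommRingCat.of A)).inv).1
    constructor
    · intro h
      have h2 : φ a = 0 := hinj (by rw [h, map_zero])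
      exact ⟨a, h2, rfl⟩
    · rintro ⟨a', ha', h⟩
      have h2 := hinj' h
      subst h2
      rw [RingHom.mem_ker.mp ha', map_zero]
  have htoΓ : ∀ (a : A), ((X ↘ Spec (CommRingCat.of A)).appLE ⊤ U (le_pt _ U)
      ((Scheme.ΓSpecIso (CommRingCat.of A)).inv a) : Γ(X, U)) = toΓ A X U a := by
    intro a
    rfl
  refine ⟨?_, fun m => ?_⟩
  · intro n
    obtain ⟨m, hm⟩ := surjective_of_isBaseChange hsurj _ hbc n
    exact ⟨m, (hsec m).trans hm⟩
  · rw [hsec]
    constructor
    · intro hm
      have h1 := mem_smul_top_of_isBaseChange hsurj _ hbc m hm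
      refine Submodule.smul_induction_on h1 ?_ ?_
      · intro b hb n _
        obtain ⟨a, ha, rfl⟩ := (hker b).mp hb
        have h2 : ((Scheme.ΓSpecIso (CommRingCat.of A)).inv a : Γ(Spec (CommRingCat.of A), ⊤)) • n =
            toΓ A X U a • n := by
          rw [← htoΓ]; rfl
        rw [h2]
        exact Submodule.smul_mem_smul (Ideal.mem_map_of_mem _ ha) trivial
      · intro x y hx hy
        exact add_mem hx hy
    · intro hm
      refine Submodule.smul_induction_on hm ?_ ?_
      · intro b hb n _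
        refine Submodule.span_induction (p := fun b _ => sec j M (le_refl (j ⁻¹ᵁ U)) (b • n) = 0)
          ?_ ?_ ?_ ?_ hb
        · rintro _ ⟨a, ha, rfl⟩
          rw [← htoΓ]
          have h3 := sec_base_smul (X ↘ Spec (CommRingCat.of A)) q
            (Spec.map (CommRingCat.ofHom φ)) j H.w M
            (le_refl (j ⁻¹ᵁ U)) ((Scheme.ΓSpecIso (CommRingCat.of A)).inv a) n
          rw [h3]
          have h4 := (hker ((Scheme.ΓSpecIso (CommRingCat.of A)).inv a)).mpr ⟨a, ha, rfl⟩
          have h5 : (Spec.map (CommRingCat.ofHom φ)).appTop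
            ((Scheme.ΓSpecIso (CommRingCat.of A)).inv a) = 0 := h4
          rw [h5, map_zero, zero_smul]
        · rw [zero_smul, map_zero]
        · intro b b' _ _ hb hb'
          rw [add_smul, map_add, hb, hb', add_zero]
        · intro c b _ hb
          rw [smul_eq_mul, mul_smul, sec_smul, hb, smul_zero]
      · intro x y hx hy
        rw [map_add, hx, hy]
        exact add_zero _

end Unit

section Flat

variable {R : Type u} [CommRing R] [IsDomain R] [IsDiscreteValuationRing R] {X : Scheme.{u}}

/-- Over a discrete valuation ring a module on which the uniformizer is injective is flat. -/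
theorem flat_iff_injective {M : Type u} [AddCommGroup M] [Module R M] {t : R} (ht : Irreducible t) :
    Module.Flat R M ↔ ∀ m : M, t • m = 0 → m = 0 := by
  rw [IsDedekindDomain.flat_iff_torsion_eq_bot, ← Submodule.isTorsionFree_iff_torsion_eq_bot,
    Module.isTorsionFree_iff_smul_eq_zero]
  constructor
  · intro h m hm
    exact (h t m hm).resolve_left ht.ne_zero
  · intro h r m hrm
    by_cases hr : r = 0
    · exact Or.inl hr
    right
    obtain ⟨n, v, rfl⟩ := IsDiscreteValuationRing.eq_unit_mul_pow_irreducible hr ht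
    have h1 : t ^ n • m = 0 := by
      rw [mul_smul] at hrm
      have h2 : (v⁻¹ : Rˣ) • ((v : R) • (t ^ n • m)) = 0 := by rw [hrm, smul_zero]
      rwa [Units.smul_def, ← mul_smul, Units.inv_mul, one_smul] at h2
    clear hrm hr
    induction n with
    | zero => rwa [pow_zero, one_smul] at h1
    | succ n ih =>
      rw [pow_succ', mul_smul] at h1
      exact ih (h _ h1)

/-- Flatness over a discrete valuation ring is injectivity of the uniformizer. -/
theorem isFlatOver_iff_mono [X.Over (Spec (CommRingCat.of R))] {t : R} (ht : Irreducible t)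
    {M : X.Modules} (hM : Coh.IsQCoh M) :
    FlatMod.IsFlatOver (X ↘ Spec (CommRingCat.of R)) M ↔ Mono (Formal.smulMod R M t) := by
  have hb : Function.Bijective (Scheme.ΓSpecIso (CommRingCat.of R)).inv.hom :=
    ConcreteCategory.bijective_of_isIso (Scheme.ΓSpecIso (CommRingCat.of R)).inv
  have key : ∀ V : X.Opens, IsAffineOpen V → ((∀ x ∈ V, FlatMod.IsFlatOverAt (X ↘ Spec (CommRingCat.of R)) M x) ↔
      ∀ m : Γ(M, V), (Formal.smulMod R M t).app V m = 0 → m = 0) := by
    intro V hV
    have e : V ≤ (X ↘ Spec (CommRingCat.of R)) ⁻¹ᵁ ⊤ := le_top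
    rw [← Groth.Agent.Flat2C.FlatSec.flat_sections_iff (X ↘ Spec (CommRingCat.of R)) M hV
      (isAffineOpen_top _) e hM]
    rw [show Groth.Agent.Flat2C.FlatSec.FlatSections (X ↘ Spec (CommRingCat.of R)) M e ↔
      (letI := Module.compHom Γ(M, V) (Groth.Agent.Fga.QTDefs.coeff (X ↘ Spec (CommRingCat.of R)) V)
       Module.Flat R Γ(M, V)) from (Groth.Agent.Fga.FSGeo.flat_compHom_iff
        (iB := Groth.Agent.Flat2C.FlatSec.moduleOver (X ↘ Spec (CommRingCat.of R)) M e)
        (Scheme.ΓSpecIso (CommRingCat.of R)).inv.hom hb).symm]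
    let := Module.compHom Γ(M, V) (Groth.Agent.Fga.QTDefs.coeff (X ↘ Spec (CommRingCat.of R)) V)
    exact flat_iff_injective ht
  constructor
  · intro h
    refine Groth.Agent.Dcoh.FlatTor.mono_of_app_injective _ fun U => ?_
    rw [injective_iff_map_eq_zero]
    intro s hs
    refine Groth.Agent.VarietyA.FiniteSupport.section_eq M s 0 fun x hx => ?_
    obtain ⟨_, ⟨V, hV, rfl⟩, hxV, hVU⟩ :=
      X.isBasis_affineOpens.exists_subset_of_mem_open hx U.isOpen
    have hVU' : V ≤ U := hVU
    have h1 : M.presheaf.map (homOfLE hVU').op s = 0 := by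
      refine (key V hV).mp (fun x _ => h x) _ ?_
      exact (Groth.Agent.CohqA.ClosedPush.app_map (Formal.smulMod R M t) hVU' s).trans
        ((congrArg _ hs).trans (map_zero _))
    rw [← TopCat.Presheaf.germ_res_apply M.presheaf (homOfLE hVU') x hxV s, h1, map_zero, map_zero]
  · intro h x
    obtain ⟨_, ⟨V, hV, rfl⟩, hxV, -⟩ :=
      X.isBasis_affineOpens.exists_subset_of_mem_open (Set.mem_univ x) isOpen_univ
    refine (key V hV).mpr (fun m hm => ?_) x hxV
    have := Groth.Agent.CycB.PureK.app_injective_of_mono (Formal.smulMod R M t) V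
    exact this (hm.trans (map_zero _).symm)

end Flat

end K22.Unit
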