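import Mathlib.AlgebraicGeometry.Geometrically.Integral
import Mathlib.CategoryTheory.Extensive

/-!
# Geometric reducedness from the components

* `geometricallyReduced_of_cover`: a reduced scheme over a field which is dominated by finitely many geometrically
  reduced schemes is geometrically reduced.
-/

set_option autoImplicit false
universe u
open CategoryTheory CategoryTheory.Limits AlgebraicGeometry TopologicalSpace

namespace K22.GeoRed

set_option backward.isDefEq.respectTransparency false in
theorem geometricallyReduced_of_cover {S X : Scheme.{u}} [Subsingleton S] [IsIntegral S] (p : X ⟶ S)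
    [IsReduced X] {J : Type u} [Finite J] (C : J → Scheme.{u}) (g : ∀ j, C j ⟶ X)
    [∀ j, QuasiCompact (g j)] (hg : ∀ x : X, ∃ (j : J) (c : C j), g j c ⤳ x)
    (h : ∀ j, GeometricallyReduced (g j ≫ p)) : GeometricallyReduced p := by
  refine ⟨fun K _ y T fst snd H => ?_⟩
  let Z := ∐ C
  let G : Z ⟶ X := Sigma.desc g
  have hqc : QuasiCompact G := by
    refine ⟨fun U hU hc => ?_⟩
    have h1 : ∀ j, IsCompact ((g j) ⁻¹ᵁ ⟨U, hU⟩ : Set (C j)) := fun j =>
      QuasiCompact.isCompact_preimage (f := g j) U hU hc
    have h2 : (G ⁻¹' U) = ⋃ j, (Sigma.ι C j) '' ((g j) ⁻¹' U) := by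
      ext z
      simp only [Set.mem_preimage, Set.mem_iUnion, Set.mem_image]
      constructor
      · intro hz
        obtain ⟨j, c, hjc⟩ : ∃ (j : J) (c : C j), Sigma.ι C j c = z :=
          ⟨_, (sigmaOpenCover C).covers z⟩
        refine ⟨j, c, ?_, hjc⟩
        rw [← hjc, ← Scheme.Hom.comp_apply, Sigma.ι_desc] at hz
        exact hz
      · rintro ⟨j, c, hc, rfl⟩
        rw [← Scheme.Hom.comp_apply, Sigma.ι_desc]
        exact hc
    rw [h2]
    exact isCompact_iUnion fun j => (h1 j).image (Sigma.ι C j).continuous
  have Hd : IsSchemeTheoreticallyDominant G := by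
    rw [isSchemeTheoreticallyDominant_iff_isDominant, isDominant_iff, denseRange_iff_closure_range,
      Set.eq_univ_iff_forall]
    intro x
    obtain ⟨j, c, hc⟩ := hg x
    refine hc.mem_closed isClosed_closure (subset_closure ⟨Sigma.ι C j c, ?_⟩)
    rw [← Scheme.Hom.comp_apply, Sigma.ι_desc]
  have hfl : Flat fst := by
    have : Flat y := inferInstance
    exact MorphismProperty.of_isPullback (P := @Flat) H.flip this
  suffices IsReduced (pullback fst G) from IsSchemeTheoreticallyDominant.isReduced (pullback.fst fst G)
  have H' := IsUniversalColimit.isPullback_of_isColimit_left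
    (X := C)
    (FinitaryPreExtensive.isUniversal_finiteCoproducts (coproductIsCoproduct _))
    g G fst _ _ (fun _ ↦ .of_hasPullback _ _) (coproductIsCoproduct _)
  apply +allowSynthFailures @isReduced_of_isOpenImmersion (f := H'.isoPullback.inv)
  apply +allowSynthFailures @IsReduced.of_openCover (𝒰 := sigmaOpenCover _)
  intro j
  have h3 := IsPullback.of_hasPullback fst (g j)
  exact (h j).geometrically_isReduced y (pullback.snd fst (g j)) (pullback.fst fst (g j) ≫ snd)
    (h3.flip.paste_vert H)

end K22.GeoRed
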