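import Groth.Agent.TFOne.K22.GenericBt
import Groth.Agent.TFOne.K975.FieldExt
import Groth.Agent.TFOne.K975.Dec2

/-!
# Simplicity on all geometric fibres

* `onlyScalars_of_indec`: a torsion-free rank-one module without decomposing sets of components has only scalar
  endomorphisms;
* `fibSimple_of_reach`: a reachable module with indecomposable special fibre is simple on all geometric fibres.
-/

set_option autoImplicit false
universe u
open CategoryTheory CategoryTheory.Limits AlgebraicGeometry Opposite TopologicalSpace IsLocalRing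

namespace K22.SimpleFib

open K77.TF K77.Tower K77.Transfer K77.GenFib Groth.Agent.CurvesB Groth.Agent.CurvesB.SubH1

section Curve

variable {X : Scheme.{u}} (k : Type u) [Field k] [X.Over (Spec (CommRingCat.of k))]
  [IsProper (X ↘ (Spec (CommRingCat.of k)))] [IsReduced X]

theorem onlyScalars_of_indec (hpure : ∀ C ∈ irreducibleComponents (X : Type u), topologicalKrullDim C = 1)
    (hgi : ∀ (C : Set X) (hC : C ∈ irreducibleComponents (X : Type u)),
      GeometricallyIntegral (VecSt.subschι X C (isClosed_of_mem_irreducibleComponents C hC) ≫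
        (X ↘ Spec (CommRingCat.of k)))) [Nonempty X] {F : X.Modules} (hF : TFOne.IsTF1 X F)
    (h : ∀ T : Set X, (∀ ξ ∈ T, IsGen ξ) → T.Nonempty → (∃ ξ : X, IsGen ξ ∧ ξ ∉ T) → ¬ Dec k F T) :
    K975.Simple.OnlyScalars k F := by
  have hN : IsNoetherian X := K975.Euler.isNoetherian k X
  refine K975.Dec.onlyScalars k hpure hgi hF ?_
  rintro ⟨Y, Z, hY, hZ, GY, GZ, πY, πZ, hYs, hZs, -, -, hGY, hGZ, hi⟩
  obtain ⟨c1, c2⟩ := K975.Dec.compl_of_isIso (K975.BetaFn.nice_of_isTF1 hF)
    (K975.Quot.isQ_of_isQuotOn hGY) (K975.Quot.isQ_of_isQuotOn hGZ) hi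
  have q1 := isQ_of_isQuotOn hF hGY
  have q2 := isQ_of_isQuotOn hF hGZ
  have hcpl : gens Z = cpl (gens Y) := by
    ext ξ
    constructor
    · rintro ⟨h1, h2⟩
      exact ⟨h1, fun h3 => c2 ξ h1 ⟨h3.2, h2⟩⟩
    · rintro ⟨h1, h2⟩
      exact ⟨h1, (c1 ξ h1).resolve_left fun h3 => h2 ⟨h1, h3⟩⟩
  rw [hcpl] at q2
  obtain ⟨ξ, h1, h2⟩ := K975.Gen.exists_gen_of_isSubcurve hYs
  obtain ⟨ζ, h3, h4⟩ := K975.Gen.exists_gen_of_isSubcurve hZs
  exact h (gens Y) isGen_of_mem_gens ⟨ξ, h1, h2⟩ ⟨ζ, h3, fun h5 => c2 ζ h3 ⟨h5.2, h4⟩⟩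
    ((dec_iff k (K77.Row.dim_le_one hpure) hF.1 (stTF_of_isTF1 hF) q1 q2).2 hi)

end Curve

section Fib

variable {R : Type u} [CommRing R] [IsDomain R] [IsDiscreteValuationRing R] {X : Scheme.{u}}
  (f : X ⟶ Spec (CommRingCat.of R)) [IsProper f] {Xs : Scheme.{u}}
  [Xs.Over (Spec (CommRingCat.of (ResidueField R)))] (i : Xs ⟶ X)
  (hsq : IsPullback i (Xs ↘ Spec (CommRingCat.of (ResidueField R))) f
    (Spec.map (CommRingCat.ofHom (residue R)))) [IsReduced Xs]
  (hpure : ∀ C ∈ irreducibleComponents (Xs : Type u), topologicalKrullDim C = 1)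
  (hgi : ∀ (C : Set Xs) (hC : C ∈ irreducibleComponents (Xs : Type u)),
    GeometricallyIntegral (VecSt.subschι Xs C (isClosed_of_mem_irreducibleComponents C hC) ≫
      (Xs ↘ Spec (CommRingCat.of (ResidueField R)))))
  {Xg : Scheme.{u}} [Xg.Over (Spec (CommRingCat.of (FractionRing R)))] (j : Xg ⟶ X)
  (hgen : IsPullback j (Xg ↘ Spec (CommRingCat.of (FractionRing R))) f
    (Spec.map (CommRingCat.ofHom (algebraMap R (FractionRing R)))))

omit [IsProper f] [IsReduced Xs] in
/-- A simple module lives on a non-empty scheme. -/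
theorem nonempty_of_isSimple {Ω : Type u} [Field Ω] {Y : Scheme.{u}} {q : Y ⟶ Spec (CommRingCat.of Ω)}
    {M : Y.Modules} (h : TFOne.IsSimple Y Ω q M) : Nonempty Y := by
  by_contra hne
  refine h.1 ((Groth.Agent.PerfB.FlatPull.isZero_iff_subsingleton M).mpr fun y => ?_)
  exact absurd ⟨y⟩ hne

include hsq in
omit [IsReduced Xs] in
theorem nonempty_special {I : X.Modules}
    (hIg : TFOne.FibSimple (Xg ↘ Spec (CommRingCat.of (FractionRing R))) ((Scheme.Modules.pullback j).obj I)) :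
    Nonempty Xs := by
  let t := Spec.map (CommRingCat.ofHom (algebraMap (FractionRing R) (AlgebraicClosure (FractionRing R))))
  have h1 := hIg (AlgebraicClosure (FractionRing R)) t _ _ _
    (IsPullback.of_hasPullback (Xg ↘ Spec (CommRingCat.of (FractionRing R))) t)
  obtain ⟨y⟩ := nonempty_of_isSimple h1
  obtain ⟨z, -⟩ := K77.Total.exists_specializes f i residue_surjective _ hsq
    (j (pullback.fst (Xg ↘ Spec (CommRingCat.of (FractionRing R))) t y))
  exact ⟨z⟩

include hsq hpure hgi hgen in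
theorem fibSimple_of_reach {I I' : X.Modules} (hA : Adm f i I) (hR : Reach i I I')
    (hs : K975.Simple.OnlyScalars (ResidueField R) ((Scheme.Modules.pullback i).obj I'))
    (hIg : TFOne.FibSimple (Xg ↘ Spec (CommRingCat.of (FractionRing R)))
      ((Scheme.Modules.pullback j).obj I)) :
    TFOne.FibSimple f I' := by
  have hp := K77.Dvr.isProper_Xs R f i hsq
  have hA' := hR.adm f i hsq hA
  have hne := nonempty_special f i hsq j hIg
  intro Ω _ _ t Y g q h
  rcases unit_or_factor f i hsq t g q h with ⟨φ, hφ, rfl, hu⟩ | ⟨φ, g', hg', -, hpb⟩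
  · obtain ⟨e⟩ := nonempty_iso_of_reach f i hsq hA hR g hu
    exact K77.Iso.isSimple Ω q e.symm (isSimple_generic f j hgen hIg hφ g q h)
  · obtain ⟨e⟩ := nonempty_compIso hg' I'
    let : Y.Over (Spec (CommRingCat.of Ω)) := ⟨q⟩
    have hpb' : IsPullback g' (Y ↘ Spec (CommRingCat.of Ω))
      (Xs ↘ Spec (CommRingCat.of (IsLocalRing.ResidueField R))) (Spec.map (CommRingCat.ofHom φ)) := hpb
    exact K77.Iso.isSimple Ω q e (K975.FieldExt.isSimple_pullback hpb' hgi hA'.tf1 hpure hs)

end Fib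

end K22.SimpleFib
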