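import Groth.Agent.TFOne.K22.TwoTowers
import Groth.Agent.TFOne.K77.Transfer
import Groth.Agent.TFOne.K77.LemG
import Groth.Agent.TFOne.K975.Fam
import Groth.Agent.TFOne.K22.GeoRed

/-!
# The value of the limit of a decomposing tower on a geometric generic fibre

* `exists_generic_bt`: an infinite decomposing tower along `T` produces a set `T'` of generic points of a geometric
  generic fibre at which the generic fibre of `J` has the same value as `J(s)` at `T`.
-/

set_option autoImplicit false
universe u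
open CategoryTheory CategoryTheory.Limits AlgebraicGeometry Opposite TopologicalSpace IsLocalRing

namespace K22.GenericBt

open K77.TF K77.Tower K22.Decomp K22.LimitThm K22.Cpl K22.LimitCpl K22.LimitK77 K22.IsoSplit K22.Unit
  K22.TwoTowers Groth.Agent.CurvesB Groth.Agent.CurvesB.SubH1 Groth.Agent.CurvesB.PairLemma

section Square

variable {R R' : Type u} [CommRing R] [IsLocalRing R] [CommRing R'] [IsLocalRing R'] (φ : R →+* R')
  [IsLocalHom φ] (hres : Function.Bijective (IsLocalRing.ResidueField.map φ))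

/-- The surjection from `R'` to the residue field of `R`. -/
noncomputable def rhoR : R' →+* ResidueField R := (resInv φ hres).comp (residue R')

theorem rhoR_surjective : Function.Surjective (rhoR φ hres) := by
  intro x
  obtain ⟨y, hy⟩ := residue_surjective (ResidueField.map φ x)
  exact ⟨y, (congrArg (resInv φ hres) hy).trans (resInv_map φ hres x)⟩

theorem rhoR_comp : (rhoR φ hres).comp φ = residue R := by
  ext a
  exact resInv_map φ hres (residue R a)

/-- The closed fibre over the residue field of `R`. -/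
theorem square_rhoR {X' Xs : Scheme.{u}} {f' : X' ⟶ Spec (CommRingCat.of R')} {i' : Xs ⟶ X'}
    {qs : Xs ⟶ Spec (CommRingCat.of (ResidueField R))}
    (h : IsPullback i' (qs ≫ Spec.map (CommRingCat.ofHom (resInv φ hres))) f'
      (Spec.map (CommRingCat.ofHom (residue R')))) :
    IsPullback i' qs f' (Spec.map (CommRingCat.ofHom (rhoR φ hres))) := by
  have hiso : IsIso (Spec.map (CommRingCat.ofHom (resInv φ hres))) := by
    have : IsIso (CommRingCat.ofHom (resInv φ hres)) :=
      (RingEquiv.toCommRingCatIso (RingEquiv.ofBijective _ hres).symm).isIso_hom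
    infer_instance
  have h1 : Spec.map (CommRingCat.ofHom (rhoR φ hres)) = Spec.map (CommRingCat.ofHom (resInv φ hres)) ≫
      Spec.map (CommRingCat.ofHom (residue R')) := by
    rw [← Spec.map_comp, ← CommRingCat.ofHom_comp]
    rfl
  refine IsPullback.of_iso h (Iso.refl _) (Iso.refl _)
    (asIso (Spec.map (CommRingCat.ofHom (resInv φ hres)))).symm (Iso.refl _) ?_ ?_ ?_ ?_
  · simp
  · simp
  · simp
  · rw [h1]
    simp

end Square

/-- A reduced proper scheme with geometrically integral components is geometrically reduced. -/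
theorem geometricallyReduced_of_components {κ : Type u} [Field κ] {Z : Scheme.{u}}
    {q : Z ⟶ Spec (CommRingCat.of κ)} [IsReduced Z] [IsNoetherian Z]
    (hgi : ∀ (C : Set Z) (hC : C ∈ irreducibleComponents (Z : Type u)),
      GeometricallyIntegral (VecSt.subschι Z C (isClosed_of_mem_irreducibleComponents C hC) ≫ q)) :
    GeometricallyReduced q := by
  have hfin : Finite (irreducibleComponents (Z : Type u)) :=
    (TopologicalSpace.NoetherianSpace.finite_irreducibleComponents).to_subtype
  let J := ↥(irreducibleComponents (Z : Type u))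
  let C : J → Scheme.{u} := fun j => VecSt.subsch Z j.1 (isClosed_of_mem_irreducibleComponents j.1 j.2)
  let ι : ∀ j : J, C j ⟶ Z := fun j => VecSt.subschι Z j.1 (isClosed_of_mem_irreducibleComponents j.1 j.2)
  refine K22.GeoRed.geometricallyReduced_of_cover q C ι (fun x => ?_) fun j => ?_
  · obtain ⟨ξ, hξ, hx⟩ := SubClosed.exists_isGen_specializes x
    have hC := K77.TF.closure_mem hξ
    have hr : ξ ∈ Set.range (ι ⟨closure {ξ}, hC⟩) := by
      rw [K77.TF.range_subschι]; exact subset_closure rfl
    obtain ⟨c, hc⟩ := hr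
    exact ⟨⟨closure {ξ}, hC⟩, c, by rw [hc]; exact hx⟩
  · have := hgi j.1 j.2
    infer_instance

/-- Transport of torsion-free quotients along an isomorphism of quotients. -/
theorem isQ_of_iso {X : Scheme.{u}} {F G G' : X.Modules} {T : Set X} {π : F ⟶ G} {π' : F ⟶ G'} (h : IsQ T π)
    (e : G' ≅ G) (he : π' ≫ e.hom = π) : IsQ T π' := by
  have h1 : π' = π ≫ e.inv := by rw [← he, Category.assoc, e.hom_inv_id, Category.comp_id]
  have hep := h.epi
  subst h1
  refine ⟨h.gen, epi_comp _ _, Groth.Agent.Sga67.CohBasic.isCoh_of_iso e.symm h.coh, ?_, fun ξ hξ => ?_,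
    fun ξ hξ hT => ?_⟩
  · exact K975.Gen.TF.of_iso e h.tf
  · rw [Groth.Agent.CycB.StalkExact.stalkLin_comp]
    have h2 : Function.Injective (Groth.Agent.CycB.StalkExact.stalkLin e.inv ξ) :=
      Groth.Agent.CycB.StalkExact.stalkLin_injective e.inv ξ
    exact h2.comp (h.inj ξ hξ)
  · have h3 := h.zero ξ hξ hT
    exact (Groth.Agent.CycB.StalkExact.stalkLin_injective e.hom ξ).subsingleton

section Main

variable {R : Type u} [CommRing R] [IsDomain R] [IsDiscreteValuationRing R] {X : Scheme.{u}}
  {f : X ⟶ Spec (CommRingCat.of R)} [Flat f] [IsProper f] {Xs : Scheme.{u}}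
  [Xs.Over (Spec (CommRingCat.of (ResidueField R)))] {i : Xs ⟶ X}
  (hsq : IsPullback i (Xs ↘ Spec (CommRingCat.of (ResidueField R))) f
    (Spec.map (CommRingCat.ofHom (residue R)))) [IsReduced Xs]
  (hgi : ∀ (C : Set Xs) (hC : C ∈ irreducibleComponents (Xs : Type u)),
    GeometricallyIntegral (VecSt.subschι Xs C (isClosed_of_mem_irreducibleComponents C hC) ≫
      (Xs ↘ Spec (CommRingCat.of (ResidueField R)))))

include hsq hgi in
/-- **The value of the limit on a geometric generic fibre.** -/
theorem exists_generic_bt (hdim : topologicalKrullDim Xs ≤ 1) {E : X.Modules} {r : ℕ}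
    (hE : FlatMod.IsFinLocFreeOfRank r E) {J : X.Modules} (hJ : Adm f i J) (hrel : TFOne.IsRelTF1 f J)
    {T : Set Xs} (hT : ∀ ξ ∈ T, IsGen ξ) (h : HasTower R i J T) :
    ∃ (Ω : Type u) (_ : Field Ω) (_ : IsAlgClosed Ω) (φ : R →+* Ω) (Y : Scheme.{u})
      (_ : Y.Over (Spec (CommRingCat.of Ω))) (g : Y ⟶ X) (T' : Set Y),
      Function.Injective φ ∧
      IsPullback g (Y ↘ Spec (CommRingCat.of Ω)) f (Spec.map (CommRingCat.ofHom φ)) ∧
      IsReduced Y ∧ topologicalKrullDim Y ≤ 1 ∧ (∀ ξ ∈ T', IsGen ξ) ∧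
      Psi Ω ((Scheme.Modules.pullback g).obj E) ((Scheme.Modules.pullback g).obj J) = tot R i E J ∧
      bt Ω ((Scheme.Modules.pullback g).obj E) ((Scheme.Modules.pullback g).obj J) T' = be R i E J T ∧
      ((∃ η : Xs, IsGen η ∧ η ∉ T) → ∃ y : Y, IsGen y ∧ y ∉ T') ∧
      ∀ σ : Spec (CommRingCat.of R) ⟶ X, σ ≫ f = 𝟙 _ →
        (∀ η : Xs, IsGen η → i η ⤳ σ (closedPoint R) → η ∈ T) →
        ∀ y : Spec (CommRingCat.of Ω) ⟶ Y, y ≫ g = Spec.map (CommRingCat.ofHom φ) ≫ σ →
          y ≫ (Y ↘ Spec (CommRingCat.of Ω)) = 𝟙 _ → ∃ y' ∈ T', y' ⤳ y (closedPoint Ω) := by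
  obtain ⟨R', _, _, _, φ, _, hφ, hres, hmax, hcpl, hinj⟩ := exists_completion R
  obtain ⟨i', rfl, hsq'⟩ := exists_square φ hres hsq (IsPullback.of_hasPullback f (Spec.map (CommRingCat.ofHom φ)))
  have hX := IsPullback.of_hasPullback f (Spec.map (CommRingCat.ofHom φ))
  set c := pullback.fst f (Spec.map (CommRingCat.ofHom φ))
  set f' := pullback.snd f (Spec.map (CommRingCat.ofHom φ))
  have hfc : Flat c := flat_c hφ hX
  have hff' : Flat f' := MorphismProperty.of_isPullback (P := @Flat) hX ‹Flat f›
  have hpf' : IsProper f' := MorphismProperty.of_isPullback (P := @IsProper) hX ‹IsProper f›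
  have hp := K77.Dvr.isProper_Xs R f (i' ≫ c) hsq
  have hn := Groth.Agent.Fga.SnapperTwist.isNoetherian_of_proper (ResidueField R) Xs
  obtain ⟨F, p, G, π, cF, ep, flF, hq, e, w⟩ := exists_limit_of_hasTower hφ hmax hX hsq hsq' hdim hJ h
  have hsqκ : IsPullback i' (Xs ↘ Spec (CommRingCat.of (ResidueField R))) f'
    (Spec.map (CommRingCat.ofHom (rhoR φ hres))) := square_rhoR φ hres hsq'
  -- the geometric generic fibre
  let Ω := AlgebraicClosure (FractionRing R')
  let ψ : R' →+* Ω := algebraMap R' Ω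
  have hψ : Function.Injective ψ := by
    change Function.Injective (algebraMap R' (AlgebraicClosure (FractionRing R')))
    rw [IsScalarTower.algebraMap_eq R' (FractionRing R') (AlgebraicClosure (FractionRing R'))]
    exact (algebraMap (FractionRing R') (AlgebraicClosure (FractionRing R'))).injective.comp
      (IsFractionRing.injective R' (FractionRing R'))
  let Y := pullback f' (Spec.map (CommRingCat.ofHom ψ))
  let g : Y ⟶ pullback f (Spec.map (CommRingCat.ofHom φ)) := pullback.fst f' (Spec.map (CommRingCat.ofHom ψ))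
  let _ : Y.Over (Spec (CommRingCat.of Ω)) := ⟨pullback.snd f' (Spec.map (CommRingCat.ofHom ψ))⟩
  have hY : IsPullback g (Y ↘ Spec (CommRingCat.of Ω)) f' (Spec.map (CommRingCat.ofHom ψ)) :=
    IsPullback.of_hasPullback _ _
  have hYX : IsPullback (g ≫ c) (Y ↘ Spec (CommRingCat.of Ω)) f (Spec.map (CommRingCat.ofHom (ψ.comp φ))) := by
    have h1 : Spec.map (CommRingCat.ofHom (ψ.comp φ)) =
        Spec.map (CommRingCat.ofHom ψ) ≫ Spec.map (CommRingCat.ofHom φ) := by
      rw [← Spec.map_comp, ← CommRingCat.ofHom_comp]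
    rw [h1]
    exact hY.flip.paste_vert hX.flip |>.flip
  have hpY : IsProper (Y ↘ Spec (CommRingCat.of Ω)) := MorphismProperty.of_isPullback (P := @IsProper) hY hpf'
  have hgrs : GeometricallyReduced (Xs ↘ Spec (CommRingCat.of (ResidueField R))) :=
    geometricallyReduced_of_components hgi
  have hred : IsReduced Y := by
    have h1 : GeometricallyReduced f := K975.Fam.geometricallyReduced f hsq
    exact GeometricallyReduced.geometrically_isReduced _ _ _ hYX
  have hdimY : topologicalKrullDim Y ≤ 1 := K975.Fam.dim_le f hsq hdim hYX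
  have hlN : IsLocallyNoetherian X := LocallyOfFiniteType.isLocallyNoetherian f
  have hlN' : IsLocallyNoetherian (pullback f (Spec.map (CommRingCat.ofHom φ))) :=
    LocallyOfFiniteType.isLocallyNoetherian f'
  have hcJ : Coh.IsCoh ((Scheme.Modules.pullback c).obj J) :=
    Groth.Agent.FormalB.PullCoh.isCoh_pullback c hJ.coh
  have hfJ : FlatMod.IsFlatOver f' ((Scheme.Modules.pullback c).obj J) := by
    obtain ⟨t, ht⟩ := IsDiscreteValuationRing.exists_irreducible R
    let _ : X.Over (Spec (CommRingCat.of R)) := ⟨f⟩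
    let _ : (pullback f (Spec.map (CommRingCat.ofHom φ))).Over (Spec (CommRingCat.of R')) := ⟨f'⟩
    have h1 := (isFlatOver_iff_mono ht hJ.coh.1).mp hJ.flat
    have hw : c ≫ (X ↘ Spec (CommRingCat.of R)) =
      ((pullback f (Spec.map (CommRingCat.ofHom φ))) ↘ Spec (CommRingCat.of R')) ≫
      Spec.map (CommRingCat.ofHom φ) := hX.w
    have h2 : Mono ((Scheme.Modules.pullback c).map (Formal.smulMod R J t)) := inferInstance
    rw [pullback_smulMod hw] at h2
    exact (isFlatOver_iff_mono (irreducible_map hmax ht) hcJ.1).mpr h2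
  have hEc := K652.LfRank.pullback c hE
  have hsJ : TFOne.IsTF1 Xs ((Scheme.Modules.pullback i').obj ((Scheme.Modules.pullback c).obj J)) :=
    K77.Iso.isTF1 (cmp i' c J).symm hJ.tf1
  have hqp : IsQ T ((Scheme.Modules.pullback i').map p) := isQ_of_iso (K77.Iso.isQ (cmp i' c J) hq) e w
  have hYJ : TFOne.IsTF1 Y ((Scheme.Modules.pullback g).obj ((Scheme.Modules.pullback c).obj J)) :=
    K77.Iso.isTF1 (cmp g c J).symm (hrel.2.2 Ω _ Y _ _ hYX)
  have hPsi : Psi Ω ((Scheme.Modules.pullback g).obj ((Scheme.Modules.pullback c).obj E))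
      ((Scheme.Modules.pullback g).obj F) = Psi (ResidueField R)
        ((Scheme.Modules.pullback i').obj ((Scheme.Modules.pullback c).obj E))
        ((Scheme.Modules.pullback i').obj F) := K975.Fam.Psi_eq f' hEc cF flF hY hsqκ
  obtain ⟨T', g1, g2, g3, g4⟩ := K77.LemG.main f' hψ g i' (rhoR_surjective φ hres) hsqκ hY hcJ cF hfJ flF p
    hqp hsJ hYJ hEc hPsi
  refine ⟨Ω, inferInstance, inferInstance, ψ.comp φ, Y, inferInstance, g ≫ c, pre g T', hψ.comp hinj, hYX, hred,
    hdimY, fun ξ hξ => hξ.1, ?_, ?_, g3, ?_⟩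
  · exact K975.Fam.Psi_eq f hE hJ.coh hJ.flat hYX hsq
  · have hfg := K77.LemG.flat_g f' hψ g _ hY
    rw [← K77.Iso.bt_congr Ω (K652.LfRank.pullback g hEc) (K652.LfRank.pullback (g ≫ c) hE) (cmp g c E)
      (cmp g c J) hYJ.1 (T := pre g T') (fun ξ hξ => hξ.1), g2]
    exact K77.Iso.bt_congr (ResidueField R) (K652.LfRank.pullback i' hEc) (K652.LfRank.pullback (i' ≫ c) hE)
      (cmp i' c E) (cmp i' c J) hsJ.1 hT
  · intro σ hσ hη y hy hy2
    -- the section over `R'`
    let σ' : Spec (CommRingCat.of R') ⟶ pullback f (Spec.map (CommRingCat.ofHom φ)) :=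
      hX.lift (Spec.map (CommRingCat.ofHom φ) ≫ σ) (𝟙 _) (by
        rw [Category.assoc, hσ, Category.comp_id, Category.id_comp])
    have s1 : σ' ≫ c = Spec.map (CommRingCat.ofHom φ) ≫ σ := hX.lift_fst _ _ _
    have s2 : σ' ≫ f' = 𝟙 _ := hX.lift_snd _ _ _
    let ζ : Spec (CommRingCat.of (ResidueField R')) ⟶ Xs := hsq'.lift
      (Spec.map (CommRingCat.ofHom (residue R')) ≫ σ') (𝟙 _) (by
        rw [Category.assoc, s2, Category.comp_id, Category.id_comp])
    have s3 : ζ ≫ i' = Spec.map (CommRingCat.ofHom (residue R')) ≫ σ' := hsq'.lift_fst _ _ _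
    let z : Xs := ζ (closedPoint (ResidueField R'))
    have hloc : IsLocalHom (CommRingCat.ofHom (residue R')).hom :=
      IsLocalHom.of_surjective _ residue_surjective
    have hcl : Spec.map (CommRingCat.ofHom (residue R')) (closedPoint (ResidueField R')) =
        (closedPoint R' : Spec (CommRingCat.of R')) := Spec_closedPoint
    have z1 : i' z = σ' (closedPoint R') := by
      have h1 : (ζ ≫ i') (closedPoint (ResidueField R')) =
          (Spec.map (CommRingCat.ofHom (residue R')) ≫ σ') (closedPoint (ResidueField R')) := by rw [s3]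
      have h2 : i' z = σ' (Spec.map (CommRingCat.ofHom (residue R')) (closedPoint (ResidueField R'))) := h1
      rw [h2, hcl]
    have z2 : (i' ≫ c) z = σ (closedPoint R) := by
      have h1 : (i' ≫ c) z = (σ' ≫ c) (closedPoint R') := congrArg c z1
      have hloc' : IsLocalHom (CommRingCat.ofHom φ).hom := inferInstanceAs (IsLocalHom φ)
      have h2 : Spec.map (CommRingCat.ofHom φ) (closedPoint R') =
        (closedPoint R : Spec (CommRingCat.of R)) := Spec_closedPoint
      rw [h1, s1]
      exact congrArg σ h2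
    refine g4 z (fun η hη1 hη2 => hη η hη1 ?_) (y (closedPoint Ω)) ?_
    · rw [← z2]
      exact hη2.map (i' ≫ c).continuous
    · have h1 : y ≫ g = Spec.map (CommRingCat.ofHom ψ) ≫ σ' := by
        apply hX.hom_ext
        · have h4 : Spec.map (CommRingCat.ofHom (ψ.comp φ)) =
              Spec.map (CommRingCat.ofHom ψ) ≫ Spec.map (CommRingCat.ofHom φ) := by
            rw [← Spec.map_comp, ← CommRingCat.ofHom_comp]
          rw [Category.assoc, hy, Category.assoc, s1, h4, Category.assoc]
        · rw [Category.assoc, hY.w, ← Category.assoc, hy2, Category.id_comp, Category.assoc, s2,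
            Category.comp_id]
      have h2 : g (y (closedPoint Ω)) = σ' (Spec.map (CommRingCat.ofHom ψ) (closedPoint Ω)) := by
        have h3 : (y ≫ g) (closedPoint Ω) = (Spec.map (CommRingCat.ofHom ψ) ≫ σ') (closedPoint Ω) := by rw [h1]
        exact h3
      rw [h2, z1]
      exact (IsLocalRing.specializes_closedPoint _).map σ'.continuous

end Main

end K22.GenericBt
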