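import Groth.Agent.TFOne.K22.Decomp

/-!
# The limit of a decomposing modification tower over a complete discrete valuation ring

* `exists_limit_of_decomposing` (library form of S18857): the data are exact sequences
  `0 ⟶ I (n+1) ⟶ I n ⟶ i_* G n`, with `i^* I n ≅ G n ⊞ G' n` and no common generic support of the `G` and the `G'`.
-/

set_option autoImplicit false
universe u
open CategoryTheory CategoryTheory.Limits AlgebraicGeometry Opposite

namespace K22.LimitThm

open Groth.Agent Groth.Agent.FormalB.ModPow K22.TowerLim K22.Decomp K22.Unit K975.Gen K975.Quot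
open Groth.Agent.CurvesB.SubH1

variable {R : Type u} [CommRing R] [IsDomain R] [IsDiscreteValuationRing R]
  {X : Scheme.{u}} [X.Over (Spec (CommRingCat.of R))]
  {Xs : Scheme.{u}} {qs : Xs ⟶ Spec (CommRingCat.of (IsLocalRing.ResidueField R))} {i : Xs ⟶ X}
  (hsq : IsPullback i qs (X ↘ Spec (CommRingCat.of R))
    (Spec.map (CommRingCat.ofHom (IsLocalRing.residue R))))

include hsq in
theorem isClosedImmersion_special : IsClosedImmersion i :=
  isClosedImmersion (IsLocalRing.residue R) Ideal.Quotient.mk_surjective hsq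

include hsq in
theorem isCut {t : R} (ht : Irreducible t) : IsCut t i := fun M hM => by
  have := isModPow_unit (IsLocalRing.residue R) Ideal.Quotient.mk_surjective hsq M hM
  rwa [IsLocalRing.ker_residue, ht.maximalIdeal_eq] at this

section

variable (I : ℕ → X.Modules) (ι : ∀ n, I (n + 1) ⟶ I n) (hI : ∀ n, Coh.IsCoh (I n))
  (hf : ∀ n, FlatMod.IsFlatOver (X ↘ Spec (CommRingCat.of R)) (I n)) (hmono : ∀ n, Mono (ι n))
  (G G' : ℕ → Xs.Modules) (π : ∀ n, (Scheme.Modules.pullback i).obj (I n) ⟶ G n)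
  (π' : ∀ n, (Scheme.Modules.pullback i).obj (I n) ⟶ G' n)
  (w : ∀ n, ι n ≫ rho i (π n) = 0) (hex : ∀ n, (ShortComplex.mk (ι n) (rho i (π n)) (w n)).Exact)
  (hdec : ∀ n, IsIso (biprod.lift (π n) (π' n)))
  (hT' : ∀ n, TF (G' n))
  (hgs : ∀ n m ξ, IsGen ξ → Subsingleton ((G n).presheaf.stalk ξ) ∨ Subsingleton ((G' m).presheaf.stalk ξ))

include hsq hI hf hmono hex hdec hT' hgs in
/-- The limit of a decomposing modification tower. -/
theorem exists_limit_of_decomposing [IsProper (X ↘ Spec (CommRingCat.of R))]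
    [IsAdicComplete (IsLocalRing.maximalIdeal R) R] :
    ∃ (F : X.Modules) (p : I 0 ⟶ F), Coh.IsCoh F ∧ Epi p ∧
      FlatMod.IsFlatOver (X ↘ Spec (CommRingCat.of R)) F ∧
      ∃ e : (Scheme.Modules.pullback i).obj F ≅ G 0, (Scheme.Modules.pullback i).map p ≫ e.hom = π 0 := by
  obtain ⟨t, ht⟩ := IsDiscreteValuationRing.exists_irreducible R
  have hm : IsLocalRing.maximalIdeal R = Ideal.span {t} := ht.maximalIdeal_eq
  have : IsAdicComplete (Ideal.span {t}) R := by rw [← hm]; infer_instance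
  have hcut : IsCut t i := isCut hsq ht
  have hcl := isClosedImmersion_special hsq
  have hI' : ∀ n, Coh.IsQCoh (I n) := fun n => (hI n).1
  have hmt : ∀ n, Mono (Formal.smulMod R (I n) t) := fun n => (isFlatOver_iff_mono ht (hI' n)).mp (hf n)
  have hV1 : ∀ n (f : G n ⟶ G' (n + 1)), f = 0 := fun n f =>
    (hT' (n + 1)).hom_eq_zero' f fun ξ hξ => hgs n (n + 1) ξ hξ
  have hV3 : ∀ n (f : G (n + 1) ⟶ G' n), f = 0 := fun n f =>
    (hT' n).hom_eq_zero' f fun ξ hξ => hgs (n + 1) n ξ hξ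
  let T : Tower X t := tower hcut I ι hI' hmt hmono G G' π π' w hex hdec hV1 hV3
  obtain ⟨F, p, hF, hp, hFm, r, hr⟩ := T.exists_limit (t := t) hI
  have h0 := hr 0
  have hepi : Epi (rho i (π 0)) := epi_rho hcut I hI' G G' π π' hdec 0
  have hinc : T.inc 1 = ι 0 := Category.comp_id (ι 0)
  have hw1 : T.inc 1 ≫ rho i (π 0) = 0 := by rw [hinc]; exact w 0
  have hw2 : ι 0 ≫ T.q 1 = 0 := by rw [← hinc]; exact T.inc_q 1
  let c : T.quo 1 ⟶ (Scheme.Modules.pushforward i).obj (G 0) := cokernel.desc (T.inc 1) _ hw1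
  have hc : T.q 1 ≫ c = rho i (π 0) := cokernel.π_desc _ _ _
  let d : (Scheme.Modules.pushforward i).obj (G 0) ⟶ T.quo 1 :=
    haveI : Epi (ShortComplex.mk (ι 0) (rho i (π 0)) (w 0)).g := hepi
    (hex 0).desc (T.q 1) hw2
  have hd : rho i (π 0) ≫ d = T.q 1 :=
    haveI : Epi (ShortComplex.mk (ι 0) (rho i (π 0)) (w 0)).g := hepi
    (hex 0).g_desc (T.q 1) hw2
  have hciso : IsIso c := by
    refine ⟨d, ?_, ?_⟩
    · have h3 : T.q 1 ≫ c ≫ d = T.q 1 := by
        rw [← Category.assoc, hc]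
        exact hd
      exact (cancel_epi (T.q 1)).mp (h3.trans (Category.comp_id _).symm)
    · have h3 : rho i (π 0) ≫ d ≫ c = rho i (π 0) := by
        refine (Category.assoc _ _ _).symm.trans ?_
        exact (congrArg (fun z => z ≫ c) hd).trans hc
      exact (cancel_epi (rho i (π 0))).mp (h3.trans (Category.comp_id _).symm)
  have h1 : IsModPow (Ideal.span {t}) (r 0 ≫ c) := by
    have h4 : IsModPow ((Ideal.span {t} : Ideal R) ^ 1) (r 0 ≫ c) := h0.2.comp_iso c
    rwa [pow_one] at h4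
  have h2 : p ≫ r 0 ≫ c = rho i (π 0) := by
    rw [← Category.assoc, h0.1]
    exact hc
  obtain ⟨e, he⟩ := exists_iso_of_isModPow hcut hF.1 (π 0) p (r 0 ≫ c) h1 h2
  exact ⟨F, p, hF, hp, (isFlatOver_iff_mono ht hF.1).mpr hFm, e, he⟩

end

end K22.LimitThm
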