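import Groth.Agent.TFOne.K22.Limit
import Groth.Agent.PerfB.FlatPull
import Groth.Agent.Ega1.PullFormal
import Mathlib.RingTheory.AdicCompletion.LocalRing
import Mathlib.RingTheory.AdicCompletion.AsTensorProduct

/-!
# Base change to the completion: closed fibres and modification sequences

`φ : R → R'` local with the same residue field and `m' = m R'` (for instance the completion).
* `exists_square`: the closed fibre of `X' = X ×_R R'` is the closed fibre of `X`;
* `exact_baseChange`: exact sequences `I' ⟶ I ⟶ i_* G` on `X` pull back to exact sequences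
  `c^* I' ⟶ c^* I ⟶ i'_* G` on `X'`.
-/

set_option autoImplicit false
universe u
open CategoryTheory CategoryTheory.Limits AlgebraicGeometry Opposite

namespace K22.Cpl

open Groth.Agent Groth.Agent.FormalB.ModPow Groth.Agent.PerfB.FlatPull K22.Decomp K22.Unit K22.LimitThm

section Square

variable {R R' : Type u} [CommRing R] [IsLocalRing R] [CommRing R'] [IsLocalRing R'] (φ : R →+* R')
  [IsLocalHom φ] (hres : Function.Bijective (IsLocalRing.ResidueField.map φ))

/-- The inverse of the isomorphism of residue fields. -/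
noncomputable def resInv : IsLocalRing.ResidueField R' →+* IsLocalRing.ResidueField R :=
  (RingEquiv.ofBijective _ hres).symm.toRingHom

theorem resInv_map (x : IsLocalRing.ResidueField R) :
    resInv φ hres (IsLocalRing.ResidueField.map φ x) = x :=
  (RingEquiv.ofBijective _ hres).symm_apply_apply x

theorem map_resInv (x : IsLocalRing.ResidueField R') :
    IsLocalRing.ResidueField.map φ (resInv φ hres x) = x :=
  (RingEquiv.ofBijective _ hres).apply_symm_apply x

/-- The closed fibre of the base change. -/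
theorem exists_square {X X' Xs : Scheme.{u}} {f : X ⟶ Spec (CommRingCat.of R)} {i : Xs ⟶ X}
    {qs : Xs ⟶ Spec (CommRingCat.of (IsLocalRing.ResidueField R))}
    (hsq : IsPullback i qs f (Spec.map (CommRingCat.ofHom (IsLocalRing.residue R))))
    {c : X' ⟶ X} {f' : X' ⟶ Spec (CommRingCat.of R')}
    (hX : IsPullback c f' f (Spec.map (CommRingCat.ofHom φ))) :
    ∃ i' : Xs ⟶ X', i' ≫ c = i ∧
      IsPullback i' (qs ≫ Spec.map (CommRingCat.ofHom (resInv φ hres))) f'
        (Spec.map (CommRingCat.ofHom (IsLocalRing.residue R'))) := by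
  have h1 : Spec.map (CommRingCat.ofHom (resInv φ hres)) ≫
      Spec.map (CommRingCat.ofHom (IsLocalRing.residue R')) ≫ Spec.map (CommRingCat.ofHom φ) =
      Spec.map (CommRingCat.ofHom (IsLocalRing.residue R)) := by
    rw [← Spec.map_comp, ← Spec.map_comp, ← CommRingCat.ofHom_comp, ← CommRingCat.ofHom_comp]
    congr 2
    ext a
    exact resInv_map φ hres (IsLocalRing.residue R a)
  have hiso : IsIso (Spec.map (CommRingCat.ofHom (resInv φ hres))) := by
    have : IsIso (CommRingCat.ofHom (resInv φ hres)) :=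
      (RingEquiv.toCommRingCatIso (RingEquiv.ofBijective _ hres).symm).isIso_hom
    infer_instance
  have hout : IsPullback i (qs ≫ Spec.map (CommRingCat.ofHom (resInv φ hres))) f
      (Spec.map (CommRingCat.ofHom (IsLocalRing.residue R')) ≫ Spec.map (CommRingCat.ofHom φ)) := by
    refine IsPullback.of_iso hsq (Iso.refl _) (Iso.refl _) (asIso (Spec.map (CommRingCat.ofHom (resInv φ hres))))
      (Iso.refl _) ?_ ?_ ?_ ?_
    · simp
    · simp
    · simp
    · simp only [asIso_hom, Iso.refl_hom, Category.comp_id]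
      exact h1.symm
  refine ⟨hX.lift i ((qs ≫ Spec.map (CommRingCat.ofHom (resInv φ hres))) ≫
    Spec.map (CommRingCat.ofHom (IsLocalRing.residue R'))) ?_, hX.lift_fst _ _ _, ?_⟩
  · rw [hout.w]
    simp only [Category.assoc]
  · refine IsPullback.of_right ?_ (hX.lift_snd _ _ _) hX
    rw [hX.lift_fst]
    exact hout

end Square

section Exact

variable {R R' : Type u} [CommRing R] [CommRing R'] {X X' Xs : Scheme.{u}}
  [X.Over (Spec (CommRingCat.of R))] [X'.Over (Spec (CommRingCat.of R'))] {φ : R →+* R'}
  {c : X' ⟶ X} (hw : c ≫ (X ↘ Spec (CommRingCat.of R)) = (X' ↘ Spec (CommRingCat.of R')) ≫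
    Spec.map (CommRingCat.ofHom φ)) {i' : Xs ⟶ X'}

include hw in
theorem appTop_toGlobal (a : R) :
    c.appTop.hom (show Γ(X, ⊤) from Coh.toGlobal (X ↘ Spec (CommRingCat.of R)) a) =
      (show Γ(X', ⊤) from Coh.toGlobal (X' ↘ Spec (CommRingCat.of R')) (φ a)) := by
  have h1 : c.appTop.hom (show Γ(X, ⊤) from Coh.toGlobal (X ↘ Spec (CommRingCat.of R)) a) =
      (c ≫ (X ↘ Spec (CommRingCat.of R))).appTop.hom ((Scheme.ΓSpecIso (CommRingCat.of R)).inv.hom a) := rfl
  have h2 : (show Γ(X', ⊤) from Coh.toGlobal (X' ↘ Spec (CommRingCat.of R')) (φ a)) =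
      (X' ↘ Spec (CommRingCat.of R')).appTop.hom ((Scheme.ΓSpecIso (CommRingCat.of R')).inv.hom (φ a)) := rfl
  rw [h1, h2, hw]
  have h3 := Scheme.ΓSpecIso_inv_naturality (CommRingCat.ofHom φ)
  have h4 : (Scheme.ΓSpecIso (CommRingCat.of R')).inv.hom (φ a) =
      (Spec.map (CommRingCat.ofHom φ)).appTop.hom ((Scheme.ΓSpecIso (CommRingCat.of R)).inv.hom a) :=
    congr($h3 a)
  rw [h4]
  rfl

include hw in
theorem pullback_smulMod (M : X.Modules) (a : R) :
    (Scheme.Modules.pullback c).map (Formal.smulMod R M a) =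
      Formal.smulMod R' ((Scheme.Modules.pullback c).obj M) (φ a) := by
  refine (Groth.Agent.Ega1.PullFormal.pullback_smulModΓ c M _).trans ?_
  exact congrArg (Formal.smulModΓ _) (appTop_toGlobal hw a)

/-- The comparison `i'^* c^* M ≅ (i' ≫ c)^* M`. -/
noncomputable abbrev cmp (i' : Xs ⟶ X') (c : X' ⟶ X) (M : X.Modules) :
    (Scheme.Modules.pullback i').obj ((Scheme.Modules.pullback c).obj M) ≅
      (Scheme.Modules.pullback (i' ≫ c)).obj M :=
  (Scheme.Modules.pullbackComp i' c).app M

omit [X.Over (Spec (CommRingCat.of R))] [X'.Over (Spec (CommRingCat.of R'))] in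
theorem cmp_naturality {M N : X.Modules} (g : M ⟶ N) :
    (Scheme.Modules.pullback i').map ((Scheme.Modules.pullback c).map g) ≫ (cmp i' c N).hom =
      (cmp i' c M).hom ≫ (Scheme.Modules.pullback (i' ≫ c)).map g :=
  (Scheme.Modules.pullbackComp i' c).hom.naturality g

omit [X.Over (Spec (CommRingCat.of R))] in
theorem pullback_rho_counit {j : Xs ⟶ X} {I : X.Modules} {G : Xs.Modules}
    (π : (Scheme.Modules.pullback j).obj I ⟶ G) :
    (Scheme.Modules.pullback j).map (rho j π) ≫
      (Scheme.Modules.pullbackPushforwardAdjunction j).counit.app G = π := by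
  have h := (Scheme.Modules.pullbackPushforwardAdjunction j).left_triangle_components I
  have h2 := (Scheme.Modules.pullbackPushforwardAdjunction j).counit.naturality π
  simp only [Functor.comp_map, Functor.id_map] at h2
  rw [rho, eta, Functor.map_comp, Category.assoc, h2, ← Category.assoc]
  exact (congrArg (fun z => z ≫ π) h).trans (Category.id_comp π)

/-- The map `i'^* c^* (i' ≫ c)_* G ⟶ G`. -/
noncomputable def psi (i' : Xs ⟶ X') (c : X' ⟶ X) (G : Xs.Modules) :
    (Scheme.Modules.pullback i').obj ((Scheme.Modules.pullback c).obj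
      ((Scheme.Modules.pushforward (i' ≫ c)).obj G)) ⟶ G :=
  (cmp i' c _).hom ≫ (Scheme.Modules.pullbackPushforwardAdjunction (i' ≫ c)).counit.app G

omit [X.Over (Spec (CommRingCat.of R))] [X'.Over (Spec (CommRingCat.of R'))] in
theorem pullback_rho {I : X.Modules} {G : Xs.Modules}
    (π : (Scheme.Modules.pullback (i' ≫ c)).obj I ⟶ G) :
    (Scheme.Modules.pullback c).map (rho (i' ≫ c) π) ≫ eta i' _ ≫
      (Scheme.Modules.pushforward i').map (psi i' c G) = rho i' ((cmp i' c I).hom ≫ π) := by
  rw [← Category.assoc, eta_naturality, Category.assoc, ← Functor.map_comp, psi, ← Category.assoc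
    ((Scheme.Modules.pullback i').map _), cmp_naturality, Category.assoc, pullback_rho_counit]
  rfl

omit [X'.Over (Spec (CommRingCat.of R'))] in
/-- Direct images from the closed fibre are killed by `t`. -/
theorem smulMod_push {t : R} {j : Xs ⟶ X} (hcut : IsCut t j) {G : Xs.Modules}
    (hG : Coh.IsQCoh ((Scheme.Modules.pushforward j).obj G)) :
    Formal.smulMod R ((Scheme.Modules.pushforward j).obj G) t = 0 := by
  have h1 := smulMod_unit hcut hG
  have h2 := (Scheme.Modules.pullbackPushforwardAdjunction j).right_triangle_components G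
  have h3 : eta j ((Scheme.Modules.pushforward j).obj G) ≫ (Scheme.Modules.pushforward j).map
      ((Scheme.Modules.pullbackPushforwardAdjunction j).counit.app G) = 𝟙 _ := h2
  calc Formal.smulMod R ((Scheme.Modules.pushforward j).obj G) t
      = (Formal.smulMod R ((Scheme.Modules.pushforward j).obj G) t ≫ eta j _) ≫
        (Scheme.Modules.pushforward j).map
          ((Scheme.Modules.pullbackPushforwardAdjunction j).counit.app G) := by
        rw [Category.assoc, h3, Category.comp_id]
    _ = 0 := by rw [h1, zero_comp]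

omit [X'.Over (Spec (CommRingCat.of R'))] in
/-- For modules killed by `t` the unit is an isomorphism. -/
theorem isIso_eta {t : R} {j : Xs ⟶ X} (hcut : IsCut t j) {M : X.Modules} (hM : Coh.IsQCoh M)
    (h : Formal.smulMod R M t = 0) : IsIso (eta j M) := by
  have hep := (hcut M hM).epi
  obtain ⟨g, hg⟩ := exists_desc hcut hM (𝟙 M) (by rw [h, zero_comp])
  have hg' : eta j M ≫ g = 𝟙 M := hg
  refine ⟨g, hg', ?_⟩
  rw [← cancel_epi (eta j M), ← Category.assoc, hg', Category.id_comp, Category.comp_id]

variable {t : R}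

include hw in
/-- Base change of modification sequences. -/
theorem exact_baseChange [Flat c] [IsClosedImmersion (i' ≫ c)] (hcut : IsCut t (i' ≫ c))
    (hcut' : IsCut (φ t) i') {J I : X.Modules} {G : Xs.Modules} (hG : Coh.IsQCoh G) {ι : J ⟶ I}
    {π : (Scheme.Modules.pullback (i' ≫ c)).obj I ⟶ G} (w : ι ≫ rho (i' ≫ c) π = 0)
    (hex : (ShortComplex.mk ι (rho (i' ≫ c) π) w).Exact) :
    ∃ w' : (Scheme.Modules.pullback c).map ι ≫ rho i' ((cmp i' c I).hom ≫ π) = 0,
      (ShortComplex.mk ((Scheme.Modules.pullback c).map ι) (rho i' ((cmp i' c I).hom ≫ π)) w').Exact := by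
  have hGq : Coh.IsQCoh ((Scheme.Modules.pushforward (i' ≫ c)).obj G) :=
    Sga67.CohBasic.isQCoh_push (i' ≫ c) hG
  have hM : Coh.IsQCoh ((Scheme.Modules.pullback c).obj ((Scheme.Modules.pushforward (i' ≫ c)).obj G)) :=
    Groth.Agent.VarietyB.PullSec.isQCoh_pullback _ _ hGq
  have h1 : Formal.smulMod R' ((Scheme.Modules.pullback c).obj
      ((Scheme.Modules.pushforward (i' ≫ c)).obj G)) (φ t) = 0 := by
    rw [← pullback_smulMod hw, smulMod_push hcut hGq, Functor.map_zero]
  have h2 := isIso_eta hcut' hM h1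
  have h3 : IsIso (psi i' c G) := by
    unfold psi
    infer_instance
  have h4 : IsIso (eta i' ((Scheme.Modules.pullback c).obj ((Scheme.Modules.pushforward (i' ≫ c)).obj G)) ≫
      (Scheme.Modules.pushforward i').map (psi i' c G)) := inferInstance
  have h5 := hex.map (Scheme.Modules.pullback c)
  have h6 := pullback_rho (i' := i') (c := c) π
  have w' : (Scheme.Modules.pullback c).map ι ≫ rho i' ((cmp i' c I).hom ≫ π) = 0 := by
    rw [← h6, ← Category.assoc, ← Functor.map_comp, w, Functor.map_zero, zero_comp]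
  refine ⟨w', ?_⟩
  let e3 : (Scheme.Modules.pullback c).obj ((Scheme.Modules.pushforward (i' ≫ c)).obj G) ≅
      (Scheme.Modules.pushforward i').obj G := asIso (eta i' _ ≫
    (Scheme.Modules.pushforward i').map (psi i' c G))
  refine ShortComplex.exact_of_iso (S₁ := (ShortComplex.mk ι (rho (i' ≫ c) π) w).map
    (Scheme.Modules.pullback c)) (ShortComplex.isoMk (Iso.refl _) (Iso.refl _) e3 ?_ ?_) h5
  · exact (Category.id_comp _).trans (Category.comp_id _).symm
  · exact (Category.id_comp _).trans h6.symm

end Exact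

end K22.Cpl
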