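import Groth.Agent.TFOne.K22.TowerLim
import Groth.Agent.TFOne.K22.Unit
import Groth.Agent.TFOne.K975.Sub

/-!
# Modification towers which decompose

`i : Z ⟶ X` is the closed fibre `t = 0`; the modules `I n` have no `t`-torsion, and `I (n+1)` is the kernel of
`I n ⟶ i_* i^* I n ⟶ i_* G n`. If `i^* I n = G n ⊞ G' n` and there are no nonzero maps between the `G`'s and the
`G'`'s then the `I n` form a `Tower`.
-/

set_option autoImplicit false
universe u
open CategoryTheory CategoryTheory.Limits AlgebraicGeometry Opposite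

namespace K22.Decomp

open Groth.Agent Groth.Agent.FormalB.ModPow Groth.Agent.FormalB.PullSys K22.TowerLim

variable {A : Type u} [CommRing A] {X Z : Scheme.{u}} [X.Over (Spec (CommRingCat.of A))]

/-- The unit `I ⟶ i_* i^* I`. -/
noncomputable def eta (i : Z ⟶ X) (I : X.Modules) :
    I ⟶ (Scheme.Modules.pushforward i).obj ((Scheme.Modules.pullback i).obj I) :=
  (Scheme.Modules.pullbackPushforwardAdjunction i).unit.app I

omit [X.Over (Spec (CommRingCat.of A))] in
theorem eta_naturality (i : Z ⟶ X) {I J : X.Modules} (f : J ⟶ I) :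
    f ≫ eta i I = eta i J ≫ (Scheme.Modules.pushforward i).map ((Scheme.Modules.pullback i).map f) :=
  (Scheme.Modules.pullbackPushforwardAdjunction i).unit.naturality f

/-- The composite `I ⟶ i_* i^* I ⟶ i_* G`. -/
noncomputable def rho (i : Z ⟶ X) {I : X.Modules} {G : Z.Modules}
    (π : (Scheme.Modules.pullback i).obj I ⟶ G) : I ⟶ (Scheme.Modules.pushforward i).obj G :=
  eta i I ≫ (Scheme.Modules.pushforward i).map π

omit [X.Over (Spec (CommRingCat.of A))] in
theorem rho_comp (i : Z ⟶ X) {I : X.Modules} {G H : Z.Modules}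
    (π : (Scheme.Modules.pullback i).obj I ⟶ G) (g : G ⟶ H) :
    rho i (π ≫ g) = rho i π ≫ (Scheme.Modules.pushforward i).map g := by
  simp only [rho, Functor.map_comp, Category.assoc]

omit [X.Over (Spec (CommRingCat.of A))] in
theorem comp_rho (i : Z ⟶ X) {I J : X.Modules} {G : Z.Modules} (f : J ⟶ I)
    (π : (Scheme.Modules.pullback i).obj I ⟶ G) :
    f ≫ rho i π = rho i ((Scheme.Modules.pullback i).map f ≫ π) := by
  rw [rho, rho, Functor.map_comp, ← Category.assoc, eta_naturality, Category.assoc]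

omit [X.Over (Spec (CommRingCat.of A))] in
theorem rho_injective (i : Z ⟶ X) {I : X.Modules} {G : Z.Modules}
    {π π' : (Scheme.Modules.pullback i).obj I ⟶ G} (h : rho i π = rho i π') : π = π' := by
  apply homEquiv_injective
  rw [Adjunction.homEquiv_unit, Adjunction.homEquiv_unit]
  exact h

section Local

variable (t : A) {i : Z ⟶ X}

/-- The standing hypothesis: `i` is the closed subscheme `t = 0`. -/
def IsCut (t : A) (i : Z ⟶ X) : Prop := ∀ M : X.Modules, Coh.IsQCoh M →
  IsModPow (Ideal.span {t}) (eta i M)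

variable {t} (hcut : IsCut t i)
include hcut

theorem smulMod_unit {I : X.Modules} (hI : Coh.IsQCoh I) :
    Formal.smulMod A I t ≫ eta i I = 0 :=
  (hcut I hI).smul_comp t (Ideal.mem_span_singleton_self t)

theorem exists_desc {I S : X.Modules} (hI : Coh.IsQCoh I) (f : I ⟶ S)
    (hf : Formal.smulMod A I t ≫ f = 0) :
    ∃ g, eta i I ≫ g = f := by
  refine (hcut I hI).desc f fun a ha => ?_
  rw [Ideal.mem_span_singleton] at ha
  obtain ⟨c, rfl⟩ := ha
  rw [smulMod_mul, Category.assoc, hf, comp_zero]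

theorem exact_unit {I : X.Modules} (hI : Coh.IsQCoh I) :
    (ShortComplex.mk _ _ (smulMod_unit hcut hI)).Exact := by
  have := (hcut I hI).epi
  exact ShortComplex.exact_of_g_is_cokernel _ (CokernelCofork.IsColimit.ofπ _ _
    (fun f hf => (exists_desc hcut hI f hf).choose)
    (fun f hf => (exists_desc hcut hI f hf).choose_spec)
    (fun f hf m hm => (cancel_epi (eta i I)).mp
      (hm.trans (exists_desc hcut hI f hf).choose_spec.symm)))

theorem smulMod_rho {I : X.Modules} (hI : Coh.IsQCoh I) {G : Z.Modules}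
    (π : (Scheme.Modules.pullback i).obj I ⟶ G) : Formal.smulMod A I t ≫ rho i π = 0 := by
  rw [rho, ← Category.assoc, smulMod_unit hcut hI, zero_comp]

/-- A map into `I` vanishing in `i_* i^* I` is divisible by `t`. -/
theorem exists_lift {I S : X.Modules} (hI : Coh.IsQCoh I) (ht : Mono (Formal.smulMod A I t)) (a : S ⟶ I)
    (ha : a ≫ eta i I = 0) :
    ∃ b : S ⟶ I, b ≫ Formal.smulMod A I t = a :=
  ⟨(exact_unit hcut hI).lift a ha, (exact_unit hcut hI).lift_f a ha⟩

/-- Identification of the special fibre of the limit. -/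
theorem exists_iso_of_isModPow [IsClosedImmersion i] {I F : X.Modules} (hF : Coh.IsQCoh F) {G : Z.Modules}
    (π : (Scheme.Modules.pullback i).obj I ⟶ G) (p : I ⟶ F)
    (r : F ⟶ (Scheme.Modules.pushforward i).obj G) (hr : IsModPow (Ideal.span {t}) r)
    (hp : p ≫ r = rho i π) :
    ∃ e : (Scheme.Modules.pullback i).obj F ≅ G, (Scheme.Modules.pullback i).map p ≫ e.hom = π := by
  obtain ⟨e, he, -⟩ := (hcut F hF).exists_iso hr
  refine ⟨(Scheme.Modules.pushforward i).preimageIso e, ?_⟩
  apply rho_injective i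
  rw [← comp_rho, rho, Functor.preimageIso_hom, Functor.map_preimage, he, hp]

end Local

section Split

variable {C : Type*} [Category C] [Abelian C]

/-- A decomposition of an object through two quotients. -/
theorem exists_split {M G G' : C} (π : M ⟶ G) (π' : M ⟶ G') (h : IsIso (biprod.lift π π')) :
    ∃ (σ : G ⟶ M) (σ' : G' ⟶ M), σ ≫ π = 𝟙 _ ∧ σ ≫ π' = 0 ∧ σ' ≫ π = 0 ∧ σ' ≫ π' = 𝟙 _ ∧
      π ≫ σ + π' ≫ σ' = 𝟙 _ := by
  have k1 : inv (biprod.lift π π') ≫ π = biprod.fst := by rw [IsIso.inv_comp_eq, biprod.lift_fst]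
  have k2 : inv (biprod.lift π π') ≫ π' = biprod.snd := by rw [IsIso.inv_comp_eq, biprod.lift_snd]
  refine ⟨biprod.inl ≫ inv (biprod.lift π π'), biprod.inr ≫ inv (biprod.lift π π'), ?_, ?_, ?_, ?_, ?_⟩
  · rw [Category.assoc, k1, biprod.inl_fst]
  · rw [Category.assoc, k2, biprod.inl_snd]
  · rw [Category.assoc, k1, biprod.inr_fst]
  · rw [Category.assoc, k2, biprod.inr_snd]
  · rw [← cancel_mono (biprod.lift π π')]
    simp only [Preadditive.add_comp, Category.assoc, IsIso.inv_hom_id, Category.comp_id, Category.id_comp]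
    ext <;> simp

end Split

section Main

variable {t : A} {i : Z ⟶ X} (hcut : IsCut t i)
  (I : ℕ → X.Modules) (ι : ∀ n, I (n + 1) ⟶ I n) (hI : ∀ n, Coh.IsQCoh (I n))
  (ht : ∀ n, Mono (Formal.smulMod A (I n) t)) (hmono : ∀ n, Mono (ι n))
  (G G' : ℕ → Z.Modules) (π : ∀ n, (Scheme.Modules.pullback i).obj (I n) ⟶ G n)
  (π' : ∀ n, (Scheme.Modules.pullback i).obj (I n) ⟶ G' n)
  (w : ∀ n, ι n ≫ rho i (π n) = 0) (hex : ∀ n, (ShortComplex.mk (ι n) (rho i (π n)) (w n)).Exact)
  (hdec : ∀ n, IsIso (biprod.lift (π n) (π' n)))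
  (hV1 : ∀ n (f : G n ⟶ G' (n + 1)), f = 0) (hV2 : ∀ n (f : G (n + 1) ⟶ G' n), f = 0)

/-- Multiplication by `t` as a map `I n ⟶ I (n+1)`. -/
noncomputable def up (n : ℕ) : I n ⟶ I (n + 1) :=
  haveI := hmono n
  (hex n).lift (Formal.smulMod A (I n) t) (smulMod_rho hcut (hI n) _)

include hdec in
theorem epi_π (n : ℕ) : Epi (π n) := by
  obtain ⟨σ, σ', h1, -⟩ := exists_split (π n) (π' n) (hdec n)
  have : Epi (σ ≫ π n) := by rw [h1]; infer_instance
  exact epi_of_epi σ _

include hcut hI hdec in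
theorem epi_rho (n : ℕ) : Epi (rho i (π n)) := by
  obtain ⟨σ, σ', h1, -⟩ := exists_split (π n) (π' n) (hdec n)
  have h2 : Epi ((Scheme.Modules.pushforward i).map (π n)) := by
    have : Epi ((Scheme.Modules.pushforward i).map σ ≫ (Scheme.Modules.pushforward i).map (π n)) := by
      rw [← Functor.map_comp, h1, CategoryTheory.Functor.map_id]; infer_instance
    exact epi_of_epi ((Scheme.Modules.pushforward i).map σ) _
  have := (hcut (I n) (hI n)).epi
  exact epi_comp _ _

theorem up_ι (n : ℕ) : up hcut I ι hI hmono G π w hex n ≫ ι n = Formal.smulMod A (I n) t :=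
  haveI := hmono n
  (hex n).lift_f _ _

theorem ι_up (n : ℕ) : ι n ≫ up hcut I ι hI hmono G π w hex n = Formal.smulMod A (I (n + 1)) t := by
  have := hmono n
  rw [← cancel_mono (ι n), Category.assoc, up_ι, smulMod_naturality]

include ht in
theorem mono_up (n : ℕ) : Mono (up hcut I ι hI hmono G π w hex n) := by
  have := ht n
  have h : Mono (up hcut I ι hI hmono G π w hex n ≫ ι n) := by rw [up_ι]; exact this
  exact mono_of_mono _ (ι n)

include hcut hI ht hdec in
/-- A map into `I n` vanishing in both quotients is divisible by `t`. -/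
theorem exists_div (n : ℕ) {S : X.Modules} (a : S ⟶ I n) (h1 : a ≫ rho i (π n) = 0)
    (h2 : a ≫ rho i (π' n) = 0) : ∃ b : S ⟶ I n, b ≫ Formal.smulMod A (I n) t = a := by
  obtain ⟨σ, σ', -, -, -, -, h⟩ := exists_split (π n) (π' n) (hdec n)
  refine exists_lift hcut (hI n) (ht n) a ?_
  have h3 : eta i (I n) =
      rho i (π n) ≫ (Scheme.Modules.pushforward i).map σ +
        rho i (π' n) ≫ (Scheme.Modules.pushforward i).map σ' := by
    rw [← rho_comp, ← rho_comp, rho, rho, ← Preadditive.comp_add, ← Functor.map_add, h, CategoryTheory.Functor.map_id]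
    exact (Category.comp_id _).symm
  rw [h3, Preadditive.comp_add, ← Category.assoc, ← Category.assoc, h1, h2, zero_comp, zero_comp, add_zero]

include ht hdec hV2 in
/-- The kernel of `I (n+1) ⟶ i_* G' (n+1)` is contained in `t I n`. -/
theorem exists_up (n : ℕ) {S : X.Modules} (a : S ⟶ I (n + 1)) (ha : a ≫ rho i (π' (n + 1)) = 0) :
    ∃ b : S ⟶ I n, b ≫ up hcut I ι hI hmono G π w hex n = a := by
  obtain ⟨σ, σ', -, -, -, -, h⟩ := exists_split (π (n + 1)) (π' (n + 1)) (hdec (n + 1))
  have h1 : (Scheme.Modules.pullback i).map (ι n) ≫ π' n =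
      π' (n + 1) ≫ σ' ≫ (Scheme.Modules.pullback i).map (ι n) ≫ π' n := by
    calc (Scheme.Modules.pullback i).map (ι n) ≫ π' n
        = (π (n + 1) ≫ σ + π' (n + 1) ≫ σ') ≫ (Scheme.Modules.pullback i).map (ι n) ≫ π' n := by
          rw [h, Category.id_comp]
      _ = π (n + 1) ≫ (σ ≫ (Scheme.Modules.pullback i).map (ι n) ≫ π' n) +
          π' (n + 1) ≫ σ' ≫ (Scheme.Modules.pullback i).map (ι n) ≫ π' n := by
          rw [Preadditive.add_comp, Category.assoc, Category.assoc]
      _ = _ := by rw [hV2 n (σ ≫ _), comp_zero, zero_add]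
  have h2 : (a ≫ ι n) ≫ rho i (π' n) = 0 := by
    rw [Category.assoc, comp_rho, h1, rho_comp, ← Category.assoc, ha, zero_comp]
  have h3 : (a ≫ ι n) ≫ rho i (π n) = 0 := by rw [Category.assoc, w, comp_zero]
  obtain ⟨b, hb⟩ := exists_div hcut I hI ht G G' π π' hdec n (a ≫ ι n) h3 h2
  have := hmono n
  refine ⟨b, ?_⟩
  rw [← cancel_mono (ι n), Category.assoc, up_ι, hb]

include hdec hV1 in
theorem up_rho' [IsClosedImmersion i] (n : ℕ) : up hcut I ι hI hmono G π w hex n ≫ rho i (π' (n + 1)) = 0 := by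
  have := epi_rho hcut I hI G G' π π' hdec n
  have h1 : ι n ≫ up hcut I ι hI hmono G π w hex n ≫ rho i (π' (n + 1)) = 0 := by
    rw [← Category.assoc, ι_up, smulMod_rho hcut (hI (n + 1))]
  let g := (hex n).desc _ h1
  have hg : rho i (π n) ≫ g = _ := (hex n).g_desc _ h1
  obtain ⟨g', hg'⟩ := (Scheme.Modules.pushforward i).map_surjective g
  rw [← hg, ← hg', hV1 n g', Functor.map_zero, comp_zero]

include ht hdec hV2 in
theorem epi_up_rho (n : ℕ) : Epi (up hcut I ι hI hmono G π w hex n ≫ rho i (π (n + 1))) := by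
  rw [epi_iff_surjective_up_to_refinements]
  intro S y
  obtain ⟨σ, σ', h1, h2, -, -, -⟩ := exists_split (π (n + 1)) (π' (n + 1)) (hdec (n + 1))
  have := (hcut (I (n + 1)) (hI (n + 1))).epi
  obtain ⟨S', p, hp, x, hx⟩ := surjective_up_to_refinements_of_epi
    (eta i (I (n + 1)))
    (y ≫ (Scheme.Modules.pushforward i).map σ)
  have h3 : x ≫ rho i (π' (n + 1)) = 0 := by
    rw [rho, ← Category.assoc, ← hx, Category.assoc, Category.assoc, ← Functor.map_comp, h2,
      Functor.map_zero, comp_zero, comp_zero]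
  obtain ⟨b, hb⟩ := exists_up hcut I ι hI ht hmono G G' π π' w hex hdec hV2 n x h3
  refine ⟨S', p, hp, b, ?_⟩
  rw [← Category.assoc, hb, rho, ← Category.assoc, ← hx, Category.assoc, Category.assoc,
    ← Functor.map_comp, h1, CategoryTheory.Functor.map_id]
  exact congr(p ≫ $((Category.comp_id y).symm))

/-- The tower. -/
noncomputable def tower [IsClosedImmersion i] : Tower X t where
  I := I
  ι := ι
  u := up hcut I ι hI hmono G π w hex
  mono := hmono
  uι := up_ι hcut I ι hI hmono G π w hex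
  epi n {S} f h1 h2 := by
    have := epi_rho hcut I hI G G' π π' hdec (n + 1)
    have h3 : rho i (π (n + 1)) ≫ (hex (n + 1)).desc f h1 = f := (hex (n + 1)).g_desc f h1
    have := epi_up_rho hcut I ι hI ht hmono G G' π π' w hex hdec hV2 n
    have h4 : (up hcut I ι hI hmono G π w hex n ≫ rho i (π (n + 1))) ≫ (hex (n + 1)).desc f h1 = 0 := by
      rw [Category.assoc, h3, h2]
    rw [← h3, (cancel_epi (up hcut I ι hI hmono G π w hex n ≫ rho i (π (n + 1)))).mp
      (h4.trans comp_zero.symm), comp_zero]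
  pull n {S} a s h := by
    have h1 : (a ≫ up hcut I ι hI hmono G π w hex n) ≫ rho i (π (n + 1)) = 0 := by
      rw [h, Category.assoc, w, comp_zero]
    have h2 : (a ≫ up hcut I ι hI hmono G π w hex n) ≫ rho i (π' (n + 1)) = 0 := by
      rw [Category.assoc, up_rho' hcut I ι hI hmono G G' π π' w hex hdec hV1, comp_zero]
    obtain ⟨b, hb⟩ := exists_div hcut I hI ht G G' π π' hdec (n + 1) _ h1 h2
    have := mono_up hcut I ι hI ht hmono G π w hex n
    refine ⟨b, ?_⟩
    rw [← cancel_mono (up hcut I ι hI hmono G π w hex n), Category.assoc, ι_up, hb]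

end Main

end K22.Decomp
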