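import Groth.Agent.TFOne.K22.LimitCpl
import Groth.Agent.TFOne.K22.Pull
import Groth.Agent.Fdesc.QCohStalk

/-!
# Isomorphisms on the closed fibre, vanishing on the generic fibre, simple modules

* `isIso_of_isIso_pullback`: over a complete base, a map from a coherent module to a coherent module without
  `t`-torsion which is an isomorphism on the closed fibre is an isomorphism;
* `isZero_of_isZero_generic`: a flat coherent module vanishing on a geometric generic fibre is zero;
* `isZero_or_isZero_of_isSimple`: simple modules are indecomposable.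
-/

set_option autoImplicit false
universe u
open CategoryTheory CategoryTheory.Limits AlgebraicGeometry Opposite

namespace K22.IsoSplit

open Groth.Agent Groth.Agent.FormalB.ModPow K22.TowerLim K22.Decomp K22.Unit K22.LimitThm K22.Cpl K22.LimitCpl

section Nakayama

variable {A : Type u} [CommRing A] {t : A} {X Z : Scheme.{u}} [X.Over (Spec (CommRingCat.of A))] {i : Z ⟶ X}
  (hcut : IsCut t i)

include hcut

theorem epi_smul_of_isZero_pullback {C : X.Modules} (hC : Coh.IsQCoh C)
    (h : IsZero ((Scheme.Modules.pullback i).obj C)) : Epi (Formal.smulMod A C t) := by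
  refine Preadditive.epi_of_cancel_zero _ fun {S} f hf => ?_
  obtain ⟨g, hg⟩ := exists_desc hcut hC f hf
  have h1 : IsZero ((Scheme.Modules.pushforward i).obj ((Scheme.Modules.pullback i).obj C)) :=
    (Scheme.Modules.pushforward i).map_isZero h
  rw [← hg, h1.eq_of_src g 0, comp_zero]

variable [IsNoetherianRing A] [IsProper (X ↘ Spec (CommRingCat.of A))] [IsAdicComplete (Ideal.span {t}) A]

theorem isZero_of_isZero_pullback {C : X.Modules} (hC : Coh.IsCoh C)
    (h : IsZero ((Scheme.Modules.pullback i).obj C)) : IsZero C :=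
  isZero_of_epi_smul hC (epi_smul_of_isZero_pullback hcut hC.1 h)

theorem epi_of_epi_pullback {M N : X.Modules} (hM : Coh.IsCoh M) (hN : Coh.IsCoh N) (p : M ⟶ N)
    (h : Epi ((Scheme.Modules.pullback i).map p)) : Epi p := by
  have hlN := isLocallyNoetherian A X
  have hC : Coh.IsCoh (cokernel p) := Sga67.CohBasic.isCoh_cokernel _ hM.1 hN
  have hz : IsZero ((Scheme.Modules.pullback i).obj (cokernel p)) := by
    have h1 : (Scheme.Modules.pullback i).map (cokernel.π p) = 0 := by
      rw [← cancel_epi ((Scheme.Modules.pullback i).map p), ← Functor.map_comp, cokernel.condition,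
        Functor.map_zero, comp_zero]
    have h2 : Epi ((Scheme.Modules.pullback i).map (cokernel.π p)) := inferInstance
    rw [IsZero.iff_id_eq_zero, ← cancel_epi ((Scheme.Modules.pullback i).map (cokernel.π p)), h1, zero_comp,
      zero_comp]
  exact Preadditive.epi_of_isZero_cokernel _ (isZero_of_isZero_pullback hcut hC hz)

/-- An isomorphism on the closed fibre onto a module without `t`-torsion is an isomorphism. -/
theorem isIso_of_isIso_pullback {M N : X.Modules} (hM : Coh.IsCoh M) (hN : Coh.IsCoh N)
    (hmt : Mono (Formal.smulMod A N t)) (p : M ⟶ N) (h : IsIso ((Scheme.Modules.pullback i).map p)) :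
    IsIso p := by
  have hlN := isLocallyNoetherian A X
  have hep : Epi p := epi_of_epi_pullback hcut hM hN p inferInstance
  have hK : Coh.IsCoh (kernel p) := Sga67.CohBasic.isCoh_kernel _ hM hN.1
  have hepi : Epi (Formal.smulMod A (kernel p) t) := by
    rw [epi_iff_surjective_up_to_refinements]
    intro S y
    have h1 : (y ≫ kernel.ι p) ≫ eta i M = 0 := by
      have h2 : ((y ≫ kernel.ι p) ≫ eta i M) ≫ (Scheme.Modules.pushforward i).map
          ((Scheme.Modules.pullback i).map p) = 0 := by
        rw [Category.assoc, ← eta_naturality, Category.assoc, ← Category.assoc (kernel.ι p),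
          kernel.condition, zero_comp, comp_zero]
      exact (cancel_mono ((Scheme.Modules.pushforward i).map
          ((Scheme.Modules.pullback i).map p))).mp (h2.trans zero_comp.symm)
    obtain ⟨S', s, hs, x, hx⟩ := (exact_unit hcut hM.1).exact_up_to_refinements (y ≫ kernel.ι p) h1
    have hx' : s ≫ y ≫ kernel.ι p = x ≫ Formal.smulMod A M t := hx
    have h3 : x ≫ p = 0 := by
      have h4 : (x ≫ p) ≫ Formal.smulMod A N t = 0 := by
        rw [Category.assoc, ← smulMod_naturality, ← Category.assoc, ← hx', Category.assoc, Category.assoc,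
          kernel.condition, comp_zero, comp_zero]
      exact (cancel_mono (Formal.smulMod A N t)).mp (h4.trans zero_comp.symm)
    refine ⟨S', s, hs, kernel.lift p x h3, ?_⟩
    rw [← cancel_mono (kernel.ι p), Category.assoc, Category.assoc, smulMod_naturality, ← Category.assoc
      (kernel.lift p x h3), kernel.lift_ι]
    exact hx'
  have hmono : Mono p := Preadditive.mono_of_isZero_kernel _ (isZero_of_epi_smul hK hepi)
  exact isIso_of_mono_of_epi p

end Nakayama

section Biprod

variable {A : Type u} [CommRing A] {X : Scheme.{u}} [X.Over (Spec (CommRingCat.of A))]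

theorem mono_smulMod_biprod {t : A} {M N : X.Modules} (hM : Mono (Formal.smulMod A M t))
    (hN : Mono (Formal.smulMod A N t)) : Mono (Formal.smulMod A (M ⊞ N) t) := by
  refine Preadditive.mono_of_cancel_zero _ fun {S} a ha => ?_
  apply biprod.hom_ext
  · rw [zero_comp, ← cancel_mono (Formal.smulMod A M t), zero_comp, Category.assoc, ← smulMod_naturality,
      ← Category.assoc, ha, zero_comp]
  · rw [zero_comp, ← cancel_mono (Formal.smulMod A N t), zero_comp, Category.assoc, ← smulMod_naturality,
      ← Category.assoc, ha, zero_comp]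

/-- Additive functors and isomorphisms onto biproducts. -/
theorem isIso_map_lift {C D : Type*} [Category C] [Category D] [Preadditive C] [Preadditive D]
    [HasBinaryBiproducts C] [HasBinaryBiproducts D] (F : C ⥤ D) [F.Additive] {M N N' : C} (a : M ⟶ N) (b : M ⟶ N')
    (h : IsIso (biprod.lift (F.map a) (F.map b))) : IsIso (F.map (biprod.lift a b)) := by
  have hpb : PreservesBinaryBiproducts F := preservesBinaryBiproducts_of_preservesBiproducts F
  have h1 : F.map (biprod.lift a b) ≫ (F.mapBiprod N N').hom = biprod.lift (F.map a) (F.map b) := by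
    rw [Functor.mapBiprod_hom]
    apply biprod.hom_ext
    · rw [Category.assoc, biprod.lift_fst, ← Functor.map_comp, biprod.lift_fst, biprod.lift_fst]
    · rw [Category.assoc, biprod.lift_snd, ← Functor.map_comp, biprod.lift_snd, biprod.lift_snd]
  have h2 : IsIso (F.map (biprod.lift a b) ≫ (F.mapBiprod N N').hom) := by rw [h1]; exact h
  exact IsIso.of_isIso_comp_right _ (F.mapBiprod N N').hom

end Biprod

section Generic

variable {R : Type u} [CommRing R] [IsDomain R] [IsDiscreteValuationRing R] {X : Scheme.{u}}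
  [X.Over (Spec (CommRingCat.of R))] {Ω : Type u} [Field Ω] {ψ : R →+* Ω} (hψ : Function.Injective ψ)
  {Y : Scheme.{u}} {g : Y ⟶ X} {q : Y ⟶ Spec (CommRingCat.of Ω)}
  (H : IsPullback g q (X ↘ Spec (CommRingCat.of R)) (Spec.map (CommRingCat.ofHom ψ)))

include hψ in
theorem flat_of_injective : ψ.Flat := by
  algebraize [ψ]
  have : FaithfulSMul R Ω := (faithfulSMul_iff_algebraMap_injective R Ω).mpr hψ
  have h1 : Module.IsTorsionFree R Ω := inferInstance
  exact (IsDedekindDomain.flat_iff_torsion_eq_bot (R := R) (M := Ω)).mpr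
    (Submodule.isTorsionFree_iff_torsion_eq_bot.mp h1)

include hψ H in
theorem flat_generic : Flat g := by
  have : Flat (Spec.map (CommRingCat.ofHom ψ)) := (Flat.SpecMap_iff).mpr (flat_of_injective hψ)
  exact MorphismProperty.of_isPullback (P := @Flat) H.flip this

include hψ H in
/-- The points at which the uniformizer is invertible are in the image of the geometric generic fibre. -/
theorem exists_preimage {t : R} (ht : Irreducible t) {x : X}
    (hx : x ∈ X.basicOpen (show Γ(X, ⊤) from Coh.toGlobal (X ↘ Spec (CommRingCat.of R)) t)) :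
    ∃ y : Y, g y = x := by
  let p : Spec (CommRingCat.of R) := (X ↘ Spec (CommRingCat.of R)) x
  have hp : t ∉ p.asIdeal := by
    have h1 : x ∈ (X ↘ Spec (CommRingCat.of R)) ⁻¹ᵁ (Spec (CommRingCat.of R)).basicOpen
        ((Scheme.ΓSpecIso (CommRingCat.of R)).inv.hom t) := by
      rw [Scheme.preimage_basicOpen]
      exact hx
    have h2 : p ∈ (Spec (CommRingCat.of R)).basicOpen ((Scheme.ΓSpecIso (CommRingCat.of R)).inv.hom t) := h1
    rw [basicOpen_eq_of_affine'] at h2
    have h3 : p ∈ PrimeSpectrum.basicOpen ((Scheme.ΓSpecIso (CommRingCat.of R)).hom.hom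
      ((Scheme.ΓSpecIso (CommRingCat.of R)).inv.hom t)) := h2
    have h4 : (Scheme.ΓSpecIso (CommRingCat.of R)).hom.hom
      ((Scheme.ΓSpecIso (CommRingCat.of R)).inv.hom t) = t :=
      congr($((Scheme.ΓSpecIso (CommRingCat.of R)).inv_hom_id).hom t)
    rw [h4] at h3
    exact h3
  have hbot : p.asIdeal = ⊥ := by
    by_contra hne
    have h5 := IsLocalRing.eq_maximalIdeal (Ring.DimensionLEOne.maximalOfPrime hne p.isPrime)
    rw [h5] at hp
    exact hp ((IsLocalRing.mem_maximalIdeal t).mpr ht.not_isUnit)
  let z : Spec (CommRingCat.of Ω) := ⟨⊥, Ideal.isPrime_bot⟩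
  have hz : (Spec.map (CommRingCat.ofHom ψ)) z = p := by
    apply PrimeSpectrum.ext
    change Ideal.comap ψ ⊥ = p.asIdeal
    rw [hbot]
    exact (RingHom.injective_iff_ker_eq_bot ψ).mp hψ
  obtain ⟨w, hw1, -⟩ := Scheme.Pullback.exists_preimage_pullback x z hz.symm
  refine ⟨H.isoPullback.inv w, ?_⟩
  rw [← Scheme.Hom.comp_apply, H.isoPullback_inv_fst]
  exact hw1

include hψ H in
/-- A flat coherent module vanishing on a geometric generic fibre vanishes. -/
theorem isZero_of_isZero_generic {M : X.Modules} (hM : Coh.IsQCoh M) {t : R} (ht : Irreducible t)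
    (hmt : Mono (Formal.smulMod R M t)) (h : IsZero ((Scheme.Modules.pullback g).obj M)) : IsZero M := by
  have hfl := flat_generic hψ H
  have hst : ∀ x ∈ X.basicOpen (show Γ(X, ⊤) from Coh.toGlobal (X ↘ Spec (CommRingCat.of R)) t),
      Subsingleton (M.presheaf.stalk x) := by
    intro x hx
    obtain ⟨y, rfl⟩ := exists_preimage hψ H ht hx
    rw [PerfB.FlatPull.isZero_iff_subsingleton] at h
    exact (Pull.subsingleton_pullback_iff g M y).mp (h y)
  rw [PerfB.FlatPull.isZero_iff_subsingleton]
  intro x
  refine subsingleton_of_forall_eq 0 fun m => ?_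
  obtain ⟨V, hV, s, rfl⟩ := M.presheaf.exists_germ_eq m
  obtain ⟨_, ⟨U, hU, rfl⟩, hxU, hUV⟩ := X.isBasis_affineOpens.exists_subset_of_mem_open hV V.isOpen
  have hUV' : U ≤ V := hUV
  have key : ∀ s : Γ(M, U), s = 0 := by
    intro s
    have h1 : M.presheaf.map (homOfLE (X.basicOpen_le (resΓ X U (Coh.toGlobal
        (X ↘ Spec (CommRingCat.of R)) t)))).op s = 0 := by
      refine Groth.Agent.VarietyA.FiniteSupport.section_eq M _ 0 fun y hy => ?_
      have hy' : y ∈ X.basicOpen (show Γ(X, ⊤) from Coh.toGlobal (X ↘ Spec (CommRingCat.of R)) t) := by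
        have h2 := Scheme.basicOpen_res X (show Γ(X, ⊤) from Coh.toGlobal (X ↘ Spec (CommRingCat.of R)) t)
          (homOfLE (le_top : U ≤ ⊤)).op
        exact (h2.le hy).2
      have := hst y hy'
      exact Subsingleton.elim _ _
    obtain ⟨n, hn⟩ := Groth.Agent.Fdesc.QCohStalk.exists_pow_smul_eq_zero M hU hM _ s h1
    clear h1
    induction n with
    | zero => rwa [pow_zero, one_smul] at hn
    | succ n ih =>
      refine ih ?_
      have h3 := Groth.Agent.CycB.PureK.app_injective_of_mono (Formal.smulMod R M t) U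
      refine h3 (Eq.trans ?_ (map_zero _).symm)
      rw [smulMod_app, ← mul_smul, ← pow_succ']
      exact hn
  rw [← TopCat.Presheaf.germ_res_apply M.presheaf (homOfLE hUV') x hxU s]
  exact (congrArg (M.presheaf.germ U x hxU) (key _)).trans (map_zero _)

end Generic

section Simple

variable {Y : Scheme.{u}} {Ω : Type u} [Field Ω] {q : Y ⟶ Spec (CommRingCat.of Ω)}

/-- Simple modules are indecomposable. -/
theorem isZero_or_isZero_of_isSimple {F A B : Y.Modules} (h : TFOne.IsSimple Y Ω q F) (e : F ≅ A ⊞ B) :
    IsZero A ∨ IsZero B := by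
  let _ : Y.Over (Spec (CommRingCat.of Ω)) := ⟨q⟩
  obtain ⟨c, hc⟩ := h.2 (e.hom ≫ biprod.fst ≫ biprod.inl ≫ e.inv)
  have hc' : e.hom ≫ biprod.fst ≫ biprod.inl ≫ e.inv = Formal.smulMod Ω F c := hc
  by_cases h0 : c = 0
  · left
    rw [h0, smulMod_zero] at hc'
    rw [IsZero.iff_id_eq_zero]
    calc 𝟙 A = biprod.inl ≫ e.inv ≫ (e.hom ≫ biprod.fst ≫ biprod.inl ≫ e.inv) ≫ e.hom ≫ biprod.fst := by
          simp
      _ = 0 := by rw [hc']; simp
  · right
    have h1 : Formal.smulMod Ω F c ≫ Formal.smulMod Ω F c⁻¹ = 𝟙 F := by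
      rw [← smulMod_mul, inv_mul_cancel₀ h0, smulMod_one]
    rw [IsZero.iff_id_eq_zero]
    calc 𝟙 B = biprod.inr ≫ e.inv ≫ (Formal.smulMod Ω F c ≫ Formal.smulMod Ω F c⁻¹) ≫ e.hom ≫ biprod.snd := by
          rw [h1]; simp
      _ = 0 := by rw [← hc']; simp

end Simple

end K22.IsoSplit
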