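import Groth.Agent.TFOne.K22.Cpl
import Groth.Agent.S0549

/-!
# The limit theorem over a non-complete base

* `exists_completion`: the completion of a discrete valuation ring;
* `exists_limit_baseChange`: a decomposing modification tower over `R` has a limit over every complete `R'`
  dominating `R` with the same residue field and uniformizer.
-/

set_option autoImplicit false
universe u
open CategoryTheory CategoryTheory.Limits AlgebraicGeometry Opposite

namespace K22.LimitCpl

open Groth.Agent Groth.Agent.FormalB.ModPow Groth.Agent.PerfB.FlatPull K22.Decomp K22.Unit K22.LimitThm K22.Cpl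
  K975.Gen K975.Quot Groth.Agent.CurvesB.SubH1

/-- The completion of a discrete valuation ring. -/
theorem exists_completion (R : Type u) [CommRing R] [IsDomain R] [IsDiscreteValuationRing R] :
    ∃ (R' : Type u) (_ : CommRing R') (_ : IsDomain R') (_ : IsDiscreteValuationRing R') (φ : R →+* R')
      (_ : IsLocalHom φ), φ.Flat ∧ Function.Bijective (IsLocalRing.ResidueField.map φ) ∧
        (IsLocalRing.maximalIdeal R).map φ = IsLocalRing.maximalIdeal R' ∧
        IsAdicComplete (IsLocalRing.maximalIdeal R') R' ∧ Function.Injective φ := by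
  obtain ⟨h1, h2⟩ := (Groth.Agent.S0549.result R).mp ⟨inferInstance, inferInstance⟩
  have hff : Module.FaithfullyFlat R (AdicCompletion (IsLocalRing.maximalIdeal R) R) :=
    Module.FaithfullyFlat.of_flat_of_isLocalHom
  refine ⟨AdicCompletion (IsLocalRing.maximalIdeal R) R, inferInstance, h1, h2, algebraMap R _,
    inferInstance, ?_, AdicCompletion.residueField_map_bijective R,
    (AdicCompletion.maximalIdeal_eq_map).symm, inferInstance,
    FaithfulSMul.algebraMap_injective R _⟩
  rw [RingHom.flat_algebraMap_iff]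
  infer_instance

section

variable {R R' : Type u} [CommRing R] [IsDomain R] [IsDiscreteValuationRing R] [CommRing R'] [IsDomain R']
  [IsDiscreteValuationRing R'] {φ : R →+* R'} (hmax : (IsLocalRing.maximalIdeal R).map φ = IsLocalRing.maximalIdeal R')

include hmax in
theorem irreducible_map {t : R} (ht : Irreducible t) : Irreducible (φ t) := by
  rw [IsDiscreteValuationRing.irreducible_iff_uniformizer, ← hmax, ht.maximalIdeal_eq, Ideal.map_span,
    Set.image_singleton]

variable {X X' Xs : Scheme.{u}} [X.Over (Spec (CommRingCat.of R))] [X'.Over (Spec (CommRingCat.of R'))]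
  {c : X' ⟶ X} [Flat c] (hw : c ≫ (X ↘ Spec (CommRingCat.of R)) = (X' ↘ Spec (CommRingCat.of R')) ≫
    Spec.map (CommRingCat.ofHom φ)) {i' : Xs ⟶ X'}
  {qs : Xs ⟶ Spec (CommRingCat.of (IsLocalRing.ResidueField R))}
  {qs' : Xs ⟶ Spec (CommRingCat.of (IsLocalRing.ResidueField R'))}
  (hsq : IsPullback (i' ≫ c) qs (X ↘ Spec (CommRingCat.of R))
    (Spec.map (CommRingCat.ofHom (IsLocalRing.residue R))))
  (hsq' : IsPullback i' qs' (X' ↘ Spec (CommRingCat.of R'))
    (Spec.map (CommRingCat.ofHom (IsLocalRing.residue R'))))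
  (I : ℕ → X.Modules) (ι : ∀ n, I (n + 1) ⟶ I n) (hI : ∀ n, Coh.IsCoh (I n))
  (hf : ∀ n, FlatMod.IsFlatOver (X ↘ Spec (CommRingCat.of R)) (I n)) (hmono : ∀ n, Mono (ι n))
  (G G' : ℕ → Xs.Modules) (hG : ∀ n, Coh.IsQCoh (G n))
  (π : ∀ n, (Scheme.Modules.pullback (i' ≫ c)).obj (I n) ⟶ G n)
  (π' : ∀ n, (Scheme.Modules.pullback (i' ≫ c)).obj (I n) ⟶ G' n)
  (w : ∀ n, ι n ≫ rho (i' ≫ c) (π n) = 0)
  (hex : ∀ n, (ShortComplex.mk (ι n) (rho (i' ≫ c) (π n)) (w n)).Exact)
  (hdec : ∀ n, IsIso (biprod.lift (π n) (π' n)))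
  (hT' : ∀ n, TF (G' n))
  (hgs : ∀ n m ξ, IsGen ξ → Subsingleton ((G n).presheaf.stalk ξ) ∨ Subsingleton ((G' m).presheaf.stalk ξ))

include hmax hw hsq hsq' hI hf hmono hG hex hdec hT' hgs in
/-- The limit of a decomposing modification tower, over a complete base change. -/
theorem exists_limit_baseChange [IsProper (X' ↘ Spec (CommRingCat.of R'))]
    [IsAdicComplete (IsLocalRing.maximalIdeal R') R'] :
    ∃ (F : X'.Modules) (p : (Scheme.Modules.pullback c).obj (I 0) ⟶ F), Coh.IsCoh F ∧ Epi p ∧
      FlatMod.IsFlatOver (X' ↘ Spec (CommRingCat.of R')) F ∧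
      ∃ e : (Scheme.Modules.pullback i').obj F ≅ G 0,
        (Scheme.Modules.pullback i').map p ≫ e.hom = (cmp i' c (I 0)).hom ≫ π 0 := by
  obtain ⟨t, ht⟩ := IsDiscreteValuationRing.exists_irreducible R
  have ht' : Irreducible (φ t) := irreducible_map hmax ht
  have hcl : IsClosedImmersion (i' ≫ c) := isClosedImmersion_special hsq
  have hcut : IsCut t (i' ≫ c) := isCut hsq ht
  have hcut' : IsCut (φ t) i' := isCut hsq' ht'
  choose w' hex' using fun n => exact_baseChange hw hcut hcut' (hG n) (w n) (hex n)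
  have hI' : ∀ n, Coh.IsCoh ((Scheme.Modules.pullback c).obj (I n)) := fun n =>
    FormalB.PullCoh.isCoh_pullback c (hI n)
  have hf' : ∀ n, FlatMod.IsFlatOver (X' ↘ Spec (CommRingCat.of R')) ((Scheme.Modules.pullback c).obj (I n)) := by
    intro n
    have h1 := (isFlatOver_iff_mono ht (hI n).1).mp (hf n)
    rw [isFlatOver_iff_mono ht' (hI' n).1, ← pullback_smulMod hw]
    infer_instance
  have hmono' : ∀ n, Mono ((Scheme.Modules.pullback c).map (ι n)) := fun n =>
    have := hmono n
    inferInstance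
  exact exists_limit_of_decomposing hsq' (fun n => (Scheme.Modules.pullback c).obj (I n))
    (fun n => (Scheme.Modules.pullback c).map (ι n)) hI' hf' hmono' G G' (fun n => (cmp i' c (I n)).hom ≫ π n)
    (fun n => (cmp i' c (I n)).hom ≫ π' n) w' hex' (fun n => by
      have := hdec n
      have h1 : biprod.lift ((cmp i' c (I n)).hom ≫ π n) ((cmp i' c (I n)).hom ≫ π' n) =
          (cmp i' c (I n)).hom ≫ biprod.lift (π n) (π' n) := by
        apply biprod.hom_ext <;> simp
      rw [h1]
      infer_instance) hT' hgs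

end

end K22.LimitCpl
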