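import Groth.Agent.TFOne.K22.LimitCpl
import Groth.Agent.TFOne.K77.Term2

/-!
# The limit theorem for the towers of `K77.Tower`

* `exists_limit_of_hasTower`: an infinite decomposing tower along `T` starting at `J` has, over every complete
  `R'` dominating `R` with the same residue field and uniformizer, a limit: a flat quotient `F` of the base change of
  `J` whose restriction to the closed fibre is the torsion-free quotient of `i^* J` on `T`.
-/

set_option autoImplicit false
universe u
open CategoryTheory CategoryTheory.Limits AlgebraicGeometry Opposite IsLocalRing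

namespace K22.LimitK77

open K77.TF K77.Tower K22.Decomp K22.LimitThm K22.Cpl K22.LimitCpl Groth.Agent.CurvesB
  Groth.Agent.CurvesB.SubH1 Groth.Agent.CurvesB.PairLemma

theorem exists_kernel_of_eq {C : Type*} [Category C] [Abelian C] {A B K : C} (f : A ⟶ B)
    (h : K = kernel f) :
    ∃ (κ : K ⟶ A) (w : κ ≫ f = 0), Mono κ ∧ (ShortComplex.mk κ f w).Exact := by
  subst h
  exact ⟨kernel.ι f, kernel.condition f, inferInstance, ShortComplex.exact_kernel f⟩

variable {R R' : Type u} [CommRing R] [IsDomain R] [IsDiscreteValuationRing R] [CommRing R'] [IsDomain R']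
  [IsDiscreteValuationRing R'] {φ : R →+* R'} (hφ : φ.Flat)
  (hmax : (maximalIdeal R).map φ = maximalIdeal R')
  {X X' Xs : Scheme.{u}} {f : X ⟶ Spec (CommRingCat.of R)} [IsProper f]
  [Xs.Over (Spec (CommRingCat.of (ResidueField R)))] [IsReduced Xs]
  {c : X' ⟶ X} {f' : X' ⟶ Spec (CommRingCat.of R')}
  (hX : IsPullback c f' f (Spec.map (CommRingCat.ofHom φ))) {i' : Xs ⟶ X'}
  {qs' : Xs ⟶ Spec (CommRingCat.of (ResidueField R'))}
  (hsq : IsPullback (i' ≫ c) (Xs ↘ Spec (CommRingCat.of (ResidueField R))) f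
    (Spec.map (CommRingCat.ofHom (residue R))))
  (hsq' : IsPullback i' qs' f' (Spec.map (CommRingCat.ofHom (residue R'))))

include hφ hX in
theorem flat_c : Flat c := by
  have : Flat (Spec.map (CommRingCat.ofHom φ)) := (Flat.SpecMap_iff).mpr hφ
  exact MorphismProperty.of_isPullback (P := @Flat) hX.flip this

include hφ hmax hX hsq hsq' in
/-- **The limit theorem.** -/
theorem exists_limit_of_hasTower [IsAdicComplete (maximalIdeal R') R'] (hdim : topologicalKrullDim Xs ≤ 1)
    {J : X.Modules} (hJ : Adm f (i' ≫ c) J) {T : Set Xs} (h : HasTower R (i' ≫ c) J T) :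
    ∃ (F : X'.Modules) (p : (Scheme.Modules.pullback c).obj J ⟶ F) (G : Xs.Modules)
      (π : (Scheme.Modules.pullback (i' ≫ c)).obj J ⟶ G), Coh.IsCoh F ∧ Epi p ∧
      FlatMod.IsFlatOver f' F ∧ K77.TF.IsQ T π ∧
      ∃ e : (Scheme.Modules.pullback i').obj F ≅ G,
        (Scheme.Modules.pullback i').map p ≫ e.hom = (cmp i' c J).hom ≫ π := by
  obtain ⟨In, rfl, hIn⟩ := h
  have hadm : ∀ n, Adm f (i' ≫ c) (In n) := by
    intro n
    induction n with
    | zero => exact hJ
    | succ n ih => exact (hIn n).2.adm f (i' ≫ c) hsq ih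
  have hp := K77.Dvr.isProper_Xs R f (i' ≫ c) hsq
  have hn := Groth.Agent.Fga.SnapperTwist.isNoetherian_of_proper (ResidueField R) Xs
  choose G π hQ hker using fun n => (hIn n).2
  choose κ w hmono hex using fun n => exists_kernel_of_eq _ (hker n)
  choose G' π' hQ' using fun n => exists_isQ (hadm n).tf1.1 (cpl T) (isGen_cpl T)
  have hdec : ∀ n, IsIso (biprod.lift (π n) (π' n)) := fun n =>
    (dec_iff (ResidueField R) hdim (hadm n).tf1.1 (stTF_of_isTF1 (hadm n).tf1) (hQ n) (hQ' n)).1 (hIn n).1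
  let _ : X.Over (Spec (CommRingCat.of R)) := ⟨f⟩
  let _ : X'.Over (Spec (CommRingCat.of R')) := ⟨f'⟩
  have hfc : Flat c := flat_c hφ hX
  have hpf' : IsProper (X' ↘ Spec (CommRingCat.of R')) :=
    MorphismProperty.of_isPullback (P := @IsProper) hX ‹IsProper f›
  obtain ⟨F, p, hF, hep, hfl, e, he⟩ := exists_limit_baseChange (φ := φ) hmax hX.w hsq hsq' In κ
    (fun n => (hadm n).coh) (fun n => (hadm n).flat) hmono G G' (fun n => (hQ n).coh.1) π π' w hex hdec
    (fun n => (hQ' n).tf) (fun n m ξ hξ => by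
      by_cases hT : ξ ∈ T
      · exact Or.inr ((hQ' m).zero ξ hξ fun h => h.2 hT)
      · exact Or.inl ((hQ n).zero ξ hξ hT))
  exact ⟨F, p, G 0, π 0, hF, hep, hfl, hQ 0, e, he⟩

end K22.LimitK77
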