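import Groth.Agent.S0004
import Groth.Agent.FormalB.ModPow
import Groth.Agent.Sga67.CohBasic

/-!
# Towers of submodules with constant quotients, and their limits over a complete base

* `Tower X t`: a decreasing sequence `… ⟶ I 1 ⟶ I 0` with `t · I n ⊆ I (n+1)` such that multiplication by `t`
  induces isomorphisms `I n / I (n+1) ≅ I (n+1) / I (n+2)`;
* `Tower.exists_limit`: over a base `A` complete for `(t)` and for `X` proper over `A`, the quotients
  `I 0 / I (n+1)` are the system `F / t^(n+1) F` for a coherent quotient `F` of `I 0` without `t`-torsion.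
-/

set_option autoImplicit false
universe u
open CategoryTheory CategoryTheory.Limits AlgebraicGeometry Opposite

namespace K22.TowerLim

open Groth.Agent Groth.Agent.FormalB.ModPow

variable {A : Type u} [CommRing A]

theorem smulMod_pow {X : Scheme.{u}} [X.Over (Spec (CommRingCat.of A))] (M : X.Modules) (t : A) (n : ℕ) :
    Formal.smulMod A M (t ^ (n + 1)) = Formal.smulMod A M (t ^ n) ≫ Formal.smulMod A M t := by
  rw [pow_succ', smulMod_mul]

/-- A tower of submodules with quotients identified by multiplication by `t`. -/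
structure Tower (X : Scheme.{u}) [X.Over (Spec (CommRingCat.of A))] (t : A) where
  I : ℕ → X.Modules
  ι : ∀ n, I (n + 1) ⟶ I n
  u : ∀ n, I n ⟶ I (n + 1)
  mono : ∀ n, Mono (ι n)
  uι : ∀ n, u n ≫ ι n = Formal.smulMod A (I n) t
  epi : ∀ n {T : X.Modules} (f : I (n + 1) ⟶ T), ι (n + 1) ≫ f = 0 → u n ≫ f = 0 → f = 0
  pull : ∀ n {T : X.Modules} (a : T ⟶ I n) (s : T ⟶ I (n + 2)), a ≫ u n = s ≫ ι (n + 1) →
    ∃ a' : T ⟶ I (n + 1), a' ≫ ι n = a

namespace Tower

variable {X : Scheme.{u}} [X.Over (Spec (CommRingCat.of A))] {t : A} (T : Tower X t)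

theorem ιu (n : ℕ) : T.ι n ≫ T.u n = Formal.smulMod A (T.I (n + 1)) t := by
  have := T.mono n
  rw [← cancel_mono (T.ι n), Category.assoc, T.uι, smulMod_naturality]

/-- The inclusion `I n ⟶ I 0`. -/
noncomputable def inc : ∀ n, T.I n ⟶ T.I 0
  | 0 => 𝟙 _
  | n + 1 => T.ι n ≫ inc n

/-- Multiplication by `t ^ n` as a map `I 0 ⟶ I n`. -/
noncomputable def pw : ∀ n, T.I 0 ⟶ T.I n
  | 0 => 𝟙 _
  | n + 1 => pw n ≫ T.u n

theorem inc_zero : T.inc 0 = 𝟙 _ := rfl
theorem inc_succ (n : ℕ) : T.inc (n + 1) = T.ι n ≫ T.inc n := rfl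
theorem pw_succ (n : ℕ) : T.pw (n + 1) = T.pw n ≫ T.u n := rfl

instance mono_inc (n : ℕ) : Mono (T.inc n) := by
  induction n with
  | zero => rw [inc_zero]; infer_instance
  | succ n ih =>
    have := T.mono n
    rw [inc_succ]
    infer_instance

theorem pw_inc (n : ℕ) : T.pw n ≫ T.inc n = Formal.smulMod A (T.I 0) (t ^ n) := by
  induction n with
  | zero => rw [pow_zero, smulMod_one]; exact Category.comp_id _
  | succ n ih =>
    rw [pw_succ, inc_succ, Category.assoc, ← Category.assoc (T.u n), T.uι, smulMod_naturality,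
      ← Category.assoc, ih, ← smulMod_pow]

/-- `I n = I (n+1) + t^n I 0`. -/
theorem pw_epi (n : ℕ) : ∀ {S : X.Modules} (f : T.I n ⟶ S), T.pw n ≫ f = 0 → T.ι n ≫ f = 0 → f = 0 := by
  induction n with
  | zero =>
    intro S f h _
    rw [← Category.id_comp f]
    exact h
  | succ n ih =>
    intro S f h1 h2
    refine T.epi n f h2 (ih (T.u n ≫ f) ?_ ?_)
    · rw [← Category.assoc, ← pw_succ, h1]
    · rw [← Category.assoc, T.ιu, ← T.uι, Category.assoc, h2, comp_zero]

/-- If `t a` lies in `I (n+1)` then `a` lies in `I n`. -/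
theorem pull_inc (n : ℕ) : ∀ {S : X.Modules} (a : S ⟶ T.I 0) (s : S ⟶ T.I (n + 1)),
    a ≫ Formal.smulMod A (T.I 0) t = s ≫ T.inc (n + 1) → ∃ a' : S ⟶ T.I n, a' ≫ T.inc n = a := by
  induction n with
  | zero => exact fun a _ _ => ⟨a, Category.comp_id _⟩
  | succ n ih =>
    intro S a s h
    obtain ⟨a', ha'⟩ := ih a (s ≫ T.ι (n + 1)) (by rw [h, Category.assoc, ← inc_succ])
    have h1 : a' ≫ T.u n = s ≫ T.ι (n + 1) := by
      have := T.mono n
      rw [← cancel_mono (T.ι n), ← cancel_mono (T.inc n)]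
      calc ((a' ≫ T.u n) ≫ T.ι n) ≫ T.inc n = a' ≫ (T.u n ≫ T.ι n) ≫ T.inc n := by
            simp only [Category.assoc]
        _ = a' ≫ T.inc n ≫ Formal.smulMod A (T.I 0) t := by rw [T.uι, smulMod_naturality]
        _ = a ≫ Formal.smulMod A (T.I 0) t := by rw [← Category.assoc, ha']
        _ = s ≫ T.inc (n + 2) := h
        _ = _ := by rw [inc_succ, inc_succ]; simp only [Category.assoc]
    obtain ⟨a'', ha''⟩ := T.pull n a' s h1
    exact ⟨a'', by rw [inc_succ, ← Category.assoc, ha'', ha']⟩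

/-- The quotient `I 0 / I n`. -/
noncomputable abbrev quo (n : ℕ) : X.Modules := cokernel (T.inc n)

noncomputable abbrev q (n : ℕ) : T.I 0 ⟶ T.quo n := cokernel.π (T.inc n)

theorem inc_q (n : ℕ) : T.inc n ≫ T.q n = 0 := cokernel.condition _

noncomputable def tr (n : ℕ) : T.quo (n + 1) ⟶ T.quo n :=
  cokernel.desc _ (T.q n) (by rw [inc_succ, Category.assoc, inc_q, comp_zero])

theorem q_tr (n : ℕ) : T.q (n + 1) ≫ T.tr n = T.q n := cokernel.π_desc _ _ _

theorem smulMod_q (n : ℕ) {a : A} (ha : a ∈ (Ideal.span {t}) ^ n) :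
    Formal.smulMod A (T.I 0) a ≫ T.q n = 0 := by
  rw [Ideal.span_singleton_pow, Ideal.mem_span_singleton] at ha
  obtain ⟨c, rfl⟩ := ha
  rw [smulMod_mul, ← pw_inc]
  simp only [Category.assoc]
  rw [inc_q, comp_zero, comp_zero]

theorem killed (n : ℕ) : Formal.KilledBy ((Ideal.span {t}) ^ n) (T.quo n) := by
  intro a ha
  rw [← cancel_epi (T.q n), ← smulMod_naturality, T.smulMod_q n ha, comp_zero]

theorem isModPow_tr (n : ℕ) : IsModPow ((Ideal.span {t}) ^ n) (T.tr n) where
  epi := by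
    have : Epi (T.q (n + 1) ≫ T.tr n) := by rw [q_tr]; infer_instance
    exact epi_of_epi (T.q (n + 1)) _
  smul_comp a ha := by rw [smulMod_naturality, T.killed n a ha, comp_zero]
  desc {Z} φ hφ := by
    have h1 : T.inc n ≫ T.q (n + 1) ≫ φ = 0 := by
      apply T.pw_epi n
      · rw [← Category.assoc, pw_inc, smulMod_naturality_assoc, hφ _ (Ideal.pow_mem_pow
          (Ideal.mem_span_singleton_self t) n), comp_zero]
      · rw [← Category.assoc, ← inc_succ, ← Category.assoc, inc_q, zero_comp]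
    refine ⟨cokernel.desc _ _ h1, ?_⟩
    rw [← cancel_epi (T.q (n + 1)), ← Category.assoc, q_tr, cokernel.π_desc]

/-- `t`-torsion of `I 0 / I (n+1)` dies in `I 0 / I n`. -/
theorem tr_eq_zero (n : ℕ) {S : X.Modules} (x : S ⟶ T.quo (n + 1))
    (hx : x ≫ Formal.smulMod A _ t = 0) : x ≫ T.tr n = 0 := by
  obtain ⟨S', p, hp, a, ha⟩ := surjective_up_to_refinements_of_epi (T.q (n + 1)) x
  have h1 : (a ≫ Formal.smulMod A _ t) ≫ T.q (n + 1) = 0 := by
    rw [Category.assoc, smulMod_naturality, ← Category.assoc, ← ha, Category.assoc, hx, comp_zero]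
  have hex : (ShortComplex.mk (T.inc (n + 1)) (T.q (n + 1)) (T.inc_q (n + 1))).Exact :=
    ShortComplex.exact_cokernel _
  obtain ⟨a', ha'⟩ := T.pull_inc n a (hex.lift _ h1) (hex.lift_f _ h1).symm
  rw [← cancel_epi p, ← Category.assoc, ha, Category.assoc, q_tr, ← ha', Category.assoc, inc_q,
    comp_zero, comp_zero]

/-- The system `I 0 / I (n+1)`. -/
noncomputable def sys : ℕᵒᵖ ⥤ X.Modules :=
  Functor.ofOpSequence (X := fun n => T.quo (n + 1)) (fun n => T.tr (n + 1))

theorem sys_map (n : ℕ) : T.sys.map (homOfLE (Nat.le_succ n)).op = T.tr (n + 1) :=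
  Functor.ofOpSequence_map_homOfLE_succ _ n

theorem isFormal_sys : IsFormal (Ideal.span {t}) T.sys where
  killed n := T.killed (n + 1)
  succ n := by rw [sys_map]; exact T.isModPow_tr (n + 1)

/-- The projection to the `n`-th term. -/
noncomputable def prj (n : ℕ) : T.I 0 ⟶ T.sys.obj (op n) := T.q (n + 1)

theorem prj_map (n : ℕ) : T.prj (n + 1) ≫ T.sys.map (homOfLE (Nat.le_succ n)).op = T.prj n := by
  rw [sys_map]
  exact T.q_tr (n + 1)

theorem prj_killed (n : ℕ) (a : A) (ha : a ∈ (Ideal.span {t}) ^ (n + 1)) :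
    Formal.smulMod A (T.I 0) a ≫ T.prj n = 0 := T.smulMod_q (n + 1) ha

theorem quo_isCoh (h : ∀ n, Coh.IsCoh (T.I n)) (n : ℕ) : Coh.IsCoh (T.quo n) :=
  Sga67.CohBasic.isCoh_cokernel _ (h n).1 (h 0)

end Tower

section Limit

variable {X : Scheme.{u}} [X.Over (Spec (CommRingCat.of A))] [IsNoetherianRing A]
  [IsProper (X ↘ Spec (CommRingCat.of A))] {t : A} [IsAdicComplete (Ideal.span {t}) A]

theorem isLocallyNoetherian (A : Type u) [CommRing A] [IsNoetherianRing A] (X : Scheme.{u})
    [X.Over (Spec (CommRingCat.of A))] [IsProper (X ↘ Spec (CommRingCat.of A))] :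
    IsLocallyNoetherian X :=
  LocallyOfFiniteType.isLocallyNoetherian (X ↘ Spec (CommRingCat.of A))

/-- A morphism of coherent modules over a complete base which is zero modulo all powers is zero. -/
theorem eq_zero_of_cπ (J : Ideal A) [IsAdicComplete J A] {M N : X.Modules} (hM : Coh.IsCoh M)
    (hN : Coh.IsCoh N) (f : M ⟶ N) (h : ∀ n, f ≫ cπ J N n = 0) : f = 0 := by
  obtain ⟨φ, -, hφ⟩ := (S0004.result A J X).1 M N hM hN 0
  rw [hφ f fun n => ?_, hφ 0 fun n => ?_]
  · change cπ J M n ≫ (0 : Formal.completion J M ⟶ Formal.completion J N).app (op n) = 0 ≫ cπ J N n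
    rw [zero_comp, Limits.zero_app, comp_zero]
  · change cπ J M n ≫ (0 : Formal.completion J M ⟶ Formal.completion J N).app (op n) = f ≫ cπ J N n
    rw [h n, Limits.zero_app, comp_zero]

/-- A coherent module `C` over a complete base with `t C = C` is zero. -/
theorem isZero_of_epi_smul {C : X.Modules} (hC : Coh.IsCoh C) (h : Epi (Formal.smulMod A C t)) :
    IsZero C := by
  rw [IsZero.iff_id_eq_zero]
  refine eq_zero_of_cπ (Ideal.span {t}) hC hC _ fun n => ?_
  rw [Category.id_comp]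
  have h1 : ∀ m : ℕ, Epi (Formal.smulMod A C (t ^ m)) := by
    intro m
    induction m with
    | zero => rw [pow_zero, smulMod_one]; infer_instance
    | succ m ih => rw [smulMod_pow]; exact epi_comp _ _
  have := h1 (n + 1)
  rw [← cancel_epi (Formal.smulMod A C (t ^ (n + 1))), comp_zero]
  exact (isModPow_cπ (Ideal.span {t}) C n).smul_comp _
    (Ideal.pow_mem_pow (Ideal.mem_span_singleton_self t) _)

/-- The limit of a tower. -/
theorem Tower.exists_limit (T : Tower X t) (hT : ∀ n, Coh.IsCoh (T.I n)) :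
    ∃ (F : X.Modules) (p : T.I 0 ⟶ F), Coh.IsCoh F ∧ Epi p ∧ Mono (Formal.smulMod A F t) ∧
      ∃ r : ∀ n, F ⟶ T.quo (n + 1), ∀ n, p ≫ r n = T.q (n + 1) ∧
        IsModPow ((Ideal.span {t}) ^ (n + 1)) (r n) := by
  obtain ⟨F, hF, ⟨e⟩⟩ := (S0004.result A (Ideal.span {t}) X).2 T.sys
    ((isCohFormal_iff _ _).mpr ⟨fun n => T.quo_isCoh hT (n + 1), T.isFormal_sys⟩)
  let r : ∀ n, F ⟶ T.sys.obj (op n) := fun n => cπ (Ideal.span {t}) F n ≫ e.hom.app (op n)
  have hr : ∀ n, IsModPow ((Ideal.span {t}) ^ (n + 1)) (r n) := fun n =>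
    (isModPow_cπ (Ideal.span {t}) F n).comp_iso _
  have hrtr : ∀ n, r (n + 1) ≫ T.sys.map (homOfLE (Nat.le_succ n)).op = r n := by
    intro n
    simp only [r]
    rw [Category.assoc, ← NatTrans.naturality, cπ_map_succ_assoc]
  let ψ : Formal.completion (Ideal.span {t}) (T.I 0) ⟶ T.sys :=
    completionDesc _ T.prj T.prj_killed T.prj_map
  obtain ⟨p, hp, -⟩ := (S0004.result A (Ideal.span {t}) X).1 (T.I 0) F (hT 0) hF (ψ ≫ e.inv)
  have hp' : ∀ n, p ≫ r n = T.prj n := by
    intro n
    have h1 : cπ (Ideal.span {t}) (T.I 0) n ≫ (ψ ≫ e.inv).app (op n) = p ≫ cπ (Ideal.span {t}) F n := hp n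
    simp only [r]
    rw [← Category.assoc, ← h1, NatTrans.comp_app, Category.assoc, Category.assoc,
      ← NatTrans.comp_app e.inv, e.inv_hom_id, NatTrans.id_app, Category.comp_id]
    exact cπ_completionDesc _ _ _ _ n
  have hC : Coh.IsCoh (cokernel p) := Sga67.CohBasic.isCoh_cokernel _ (hT 0).1 hF
  have hlN := isLocallyNoetherian A X
  refine ⟨F, p, hF, ?_, ?_, r, fun n => ⟨hp' n, hr n⟩⟩
  · -- epi
    have h0 : ∀ {S : X.Modules} (f : F ⟶ S), p ≫ f = 0 → Formal.smulMod A F t ≫ f = 0 → f = 0 := by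
      intro S f h1 h2
      obtain ⟨g, rfl⟩ := (hr 0).desc f (fun a ha => by
        rw [zero_add, pow_one, Ideal.mem_span_singleton] at ha
        obtain ⟨c, rfl⟩ := ha
        rw [smulMod_mul, Category.assoc, h2, comp_zero])
      have : Epi (T.prj 0) := inferInstanceAs (Epi (cokernel.π _))
      have h3 : T.prj 0 ≫ g = 0 := by rw [← hp' 0, Category.assoc, h1]
      rw [(cancel_epi (T.prj 0)).mp (h3.trans comp_zero.symm), comp_zero]
    have hz : IsZero (cokernel p) := by
      refine isZero_of_epi_smul (t := t) hC (Preadditive.epi_of_cancel_zero _ fun {S} f hf => ?_)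
      rw [← cancel_epi (cokernel.π p), comp_zero]
      refine h0 _ ?_ ?_
      · rw [← Category.assoc, cokernel.condition, zero_comp]
      · rw [smulMod_naturality_assoc, hf, comp_zero]
    exact Preadditive.epi_of_isZero_cokernel _ hz
  · have hK : Coh.IsCoh (kernel (Formal.smulMod A F t)) := Sga67.CohBasic.isCoh_kernel _ hF hF.1
    have h1 : ∀ n, kernel.ι (Formal.smulMod A F t) ≫ r n = 0 := by
      intro n
      rw [← hrtr n, ← Category.assoc]
      refine (congrArg (fun z => (kernel.ι (Formal.smulMod A F t) ≫ r (n + 1)) ≫ z) (T.sys_map n)).trans ?_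
      refine T.tr_eq_zero (n + 1) _ ?_
      have h2 : Formal.smulMod A F t ≫ r (n + 1) = r (n + 1) ≫ Formal.smulMod A _ t :=
        smulMod_naturality _ _
      refine (Category.assoc _ _ _).trans ((congrArg (fun z => kernel.ι (Formal.smulMod A F t) ≫ z)
        h2.symm).trans ?_)
      rw [← Category.assoc, kernel.condition, zero_comp]
      rfl
    have h2 : kernel.ι (Formal.smulMod A F t) = 0 := by
      refine eq_zero_of_cπ (Ideal.span {t}) hK hF _ fun n => ?_
      have h3 := h1 n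
      simp only [r] at h3
      rw [← Category.assoc] at h3
      exact (cancel_mono (e.hom.app (op n))).mp (h3.trans zero_comp.symm)
    exact Preadditive.mono_of_kernel_zero h2

end Limit

end K22.TowerLim
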