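import Groth.Agent.TFOne.K22.LimitK77
import Groth.Agent.TFOne.K22.IsoSplit

/-!
# Two complementary infinite towers contradict simplicity of the generic fibre

* `exists_not_simple`: if the decomposing towers along `T` and along its complement are both infinite, then over a
  geometric generic point the module is not simple.
* `exists_limit_generic`: the limit of one tower, restricted to a geometric generic fibre.
-/

set_option autoImplicit false
universe u
open CategoryTheory CategoryTheory.Limits AlgebraicGeometry Opposite IsLocalRing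

namespace K22.TwoTowers

open K77.TF K77.Tower K22.Decomp K22.LimitThm K22.Cpl K22.LimitCpl K22.LimitK77 K22.IsoSplit K22.Unit
  Groth.Agent.CurvesB Groth.Agent.CurvesB.SubH1 Groth.Agent.CurvesB.PairLemma

variable {R : Type u} [CommRing R] [IsDomain R] [IsDiscreteValuationRing R]
  {X Xs : Scheme.{u}} {f : X ⟶ Spec (CommRingCat.of R)} [IsProper f]
  [Xs.Over (Spec (CommRingCat.of (ResidueField R)))] [IsReduced Xs] {i : Xs ⟶ X}
  (hsq : IsPullback i (Xs ↘ Spec (CommRingCat.of (ResidueField R))) f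
    (Spec.map (CommRingCat.ofHom (residue R))))

/-- A square over a composite. -/
theorem exists_factor {S S' W : Type u} [CommRing S] [CommRing S'] [CommRing W] {φ : S →+* S'} {ψ' : S' →+* W}
    {X X' Y : Scheme.{u}} {f : X ⟶ Spec (CommRingCat.of S)} {c : X' ⟶ X} {f' : X' ⟶ Spec (CommRingCat.of S')}
    (hX : IsPullback c f' f (Spec.map (CommRingCat.ofHom φ))) {g : Y ⟶ X}
    {q : Y ⟶ Spec (CommRingCat.of W)} (H : IsPullback g q f (Spec.map (CommRingCat.ofHom (ψ'.comp φ)))) :
    ∃ g' : Y ⟶ X', g' ≫ c = g ∧ IsPullback g' q f' (Spec.map (CommRingCat.ofHom ψ')) := by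
  have h1 : Spec.map (CommRingCat.ofHom (ψ'.comp φ)) =
      Spec.map (CommRingCat.ofHom ψ') ≫ Spec.map (CommRingCat.ofHom φ) := by
    rw [← Spec.map_comp, ← CommRingCat.ofHom_comp]
  rw [h1] at H
  refine ⟨hX.lift g (q ≫ Spec.map (CommRingCat.ofHom ψ')) (by rw [H.w, Category.assoc]), hX.lift_fst _ _ _, ?_⟩
  refine IsPullback.of_right ?_ (hX.lift_snd _ _ _) hX
  rw [hX.lift_fst]
  exact H

include hsq in
/-- Complementary infinite decomposing towers: the geometric generic fibre is not simple. -/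
theorem exists_not_simple (hdim : topologicalKrullDim Xs ≤ 1) {J : X.Modules} (hJ : Adm f i J)
    {T : Set Xs} (hne : T.Nonempty) (hne' : ∃ ξ : Xs, IsGen ξ ∧ ξ ∉ T)
    (h1 : HasTower R i J T) (h2 : HasTower R i J (cpl T)) :
    ∃ (Ω : Type u) (_ : Field Ω) (_ : IsAlgClosed Ω) (ψ : R →+* Ω), Function.Injective ψ ∧
      ∀ (Y : Scheme.{u}) (g : Y ⟶ X) (q : Y ⟶ Spec (CommRingCat.of Ω)),
        IsPullback g q f (Spec.map (CommRingCat.ofHom ψ)) →
          ¬ TFOne.IsSimple Y Ω q ((Scheme.Modules.pullback g).obj J) := by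
  obtain ⟨R', _, _, _, φ, _, hφ, hres, hmax, hcpl, hinj⟩ := exists_completion R
  obtain ⟨i', rfl, hsq'⟩ := exists_square φ hres hsq (IsPullback.of_hasPullback f (Spec.map (CommRingCat.ofHom φ)))
  have hX := IsPullback.of_hasPullback f (Spec.map (CommRingCat.ofHom φ))
  set c := pullback.fst f (Spec.map (CommRingCat.ofHom φ))
  set f' := pullback.snd f (Spec.map (CommRingCat.ofHom φ))
  obtain ⟨F₁, p₁, G₁, π₁, c₁, e₁, fl₁, q₁, ε₁, w₁⟩ := exists_limit_of_hasTower hφ hmax hX hsq hsq' hdim hJ h1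
  obtain ⟨F₂, p₂, G₂, π₂, c₂, e₂, fl₂, q₂, ε₂, w₂⟩ := exists_limit_of_hasTower hφ hmax hX hsq hsq' hdim hJ h2
  have hp := K77.Dvr.isProper_Xs R f (i' ≫ c) hsq
  have hn := Groth.Agent.Fga.SnapperTwist.isNoetherian_of_proper (ResidueField R) Xs
  have hdec : IsIso (biprod.lift π₁ π₂) := by
    obtain ⟨In, rfl, hIn⟩ := h1
    exact (dec_iff (ResidueField R) hdim hJ.tf1.1 (stTF_of_isTF1 hJ.tf1) q₁ q₂).1 (hIn 0).1
  let _ : (pullback f (Spec.map (CommRingCat.ofHom φ))).Over (Spec (CommRingCat.of R')) := ⟨f'⟩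
  have hpf' : IsProper ((pullback f (Spec.map (CommRingCat.ofHom φ))) ↘ Spec (CommRingCat.of R')) :=
    MorphismProperty.of_isPullback (P := @IsProper) hX ‹IsProper f›
  obtain ⟨t, ht⟩ := IsDiscreteValuationRing.exists_irreducible R'
  have hcut : IsCut t i' := isCut hsq' ht
  have hadic : IsAdicComplete (Ideal.span {t}) R' := by rw [← ht.maximalIdeal_eq]; exact hcpl
  have hcJ : Coh.IsCoh ((Scheme.Modules.pullback c).obj J) :=
    Groth.Agent.FormalB.PullCoh.isCoh_pullback c hJ.coh
  have m₁ := (isFlatOver_iff_mono ht c₁.1).mp fl₁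
  have m₂ := (isFlatOver_iff_mono ht c₂.1).mp fl₂
  have hlN := K22.TowerLim.isLocallyNoetherian R' (pullback f (Spec.map (CommRingCat.ofHom φ)))
  have hco : Coh.IsCoh (F₁ ⊞ F₂) := Groth.Agent.Sga67.CohBasic.isCoh_biprod c₁ c₂
  have hii : IsIso ((Scheme.Modules.pullback i').map (biprod.lift p₁ p₂)) := by
    refine isIso_map_lift _ p₁ p₂ ?_
    have hw₁ : (Scheme.Modules.pullback i').map p₁ = (cmp i' c J).hom ≫ π₁ ≫ ε₁.inv := by
      rw [← Category.assoc, ← w₁, Category.assoc, Iso.hom_inv_id, Category.comp_id]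
    have hw₂ : (Scheme.Modules.pullback i').map p₂ = (cmp i' c J).hom ≫ π₂ ≫ ε₂.inv := by
      rw [← Category.assoc, ← w₂, Category.assoc, Iso.hom_inv_id, Category.comp_id]
    have hw : biprod.lift ((Scheme.Modules.pullback i').map p₁) ((Scheme.Modules.pullback i').map p₂) =
        (cmp i' c J).hom ≫ biprod.lift π₁ π₂ ≫ biprod.map ε₁.inv ε₂.inv := by
      rw [hw₁, hw₂]
      apply biprod.hom_ext <;> simp
    have k1 : IsIso (biprod.map ε₁.inv ε₂.inv) := by
      refine ⟨biprod.map ε₁.hom ε₂.hom, ?_, ?_⟩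
      · apply biprod.hom_ext <;> simp
      · apply biprod.hom_ext <;> simp
    have k2 : IsIso (biprod.lift π₁ π₂ ≫ biprod.map ε₁.inv ε₂.inv) := IsIso.comp_isIso' hdec k1
    rw [hw]
    exact IsIso.comp_isIso' inferInstance k2
  have hiso : IsIso (biprod.lift p₁ p₂) := isIso_of_isIso_pullback hcut hcJ hco (mono_smulMod_biprod m₁ m₂) _ hii
  -- the geometric generic point
  have hψ' : Function.Injective (algebraMap R' (AlgebraicClosure (FractionRing R'))) := by
    rw [IsScalarTower.algebraMap_eq R' (FractionRing R') (AlgebraicClosure (FractionRing R'))]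
    exact (algebraMap (FractionRing R') (AlgebraicClosure (FractionRing R'))).injective.comp
      (IsFractionRing.injective R' (FractionRing R'))
  refine ⟨AlgebraicClosure (FractionRing R'), inferInstance, inferInstance,
    (algebraMap R' (AlgebraicClosure (FractionRing R'))).comp φ, hψ'.comp hinj, fun Y g q H hs => ?_⟩
  obtain ⟨g', rfl, H'⟩ := exists_factor hX H
  -- the decomposition over the geometric generic point
  have hpb : PreservesBinaryBiproducts (Scheme.Modules.pullback g') :=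
    preservesBinaryBiproducts_of_preservesBiproducts _
  let e : (Scheme.Modules.pullback (g' ≫ c)).obj J ≅
      (Scheme.Modules.pullback g').obj F₁ ⊞ (Scheme.Modules.pullback g').obj F₂ :=
    (cmp g' c J).symm ≪≫ (Scheme.Modules.pullback g').mapIso (asIso (biprod.lift p₁ p₂)) ≪≫
      (Scheme.Modules.pullback g').mapBiprod F₁ F₂
  have hgen : ∀ {F : (pullback f (Spec.map (CommRingCat.ofHom φ))).Modules} {G : Xs.Modules} {S : Set Xs}
      {π : (Scheme.Modules.pullback (i' ≫ c)).obj J ⟶ G} (_ : Coh.IsCoh F)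
      (_ : Mono (Formal.smulMod R' F t)) (_ : IsQ S π) (_ : (Scheme.Modules.pullback i').obj F ≅ G)
      (_ : S.Nonempty), IsZero ((Scheme.Modules.pullback g').obj F) → False := by
    intro F G S π hF hm hq ε ⟨ξ, hξ⟩ hz
    have h3 : IsZero F := isZero_of_isZero_generic hψ' H' hF.1 ht hm hz
    have h4 : IsZero G := IsZero.of_iso ((Scheme.Modules.pullback i').map_isZero h3) ε.symm
    have h5 : Subsingleton (G.presheaf.stalk ξ) :=
      (Groth.Agent.PerfB.FlatPull.isZero_iff_subsingleton G).mp h4 ξ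
    have h6 : Subsingleton (((Scheme.Modules.pullback (i' ≫ c)).obj J).presheaf.stalk ξ) :=
      (hq.inj ξ hξ).subsingleton
    exact K975.Gen.nontrivial_of_isRkOne hJ.tf1.2.2 (hq.gen ξ hξ) h6
  rcases isZero_or_isZero_of_isSimple hs e with hz | hz
  · exact hgen c₁ m₁ q₁ ε₁ hne hz
  · obtain ⟨ξ, hξ, hξT⟩ := hne'
    exact hgen c₂ m₂ q₂ ε₂ ⟨ξ, hξ, hξT⟩ hz

end K22.TwoTowers
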